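import Groth.Agent.AsympCoh.Limsup

/-!
Applications: modules differing in small dimension, homogeneity, integral exponents.
-/

set_option autoImplicit false
set_option linter.unusedSectionVars false
set_option linter.style.haveILetI false
set_option backward.isDefEq.respectTransparency false
set_option backward.isDefEq.respectTransparency.types false
set_option maxHeartbeats 1000000

universe u

open CategoryTheory CategoryTheory.Limits AlgebraicGeometry TopologicalSpace Filter Topology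

noncomputable section

namespace Groth.Agent.AsympCoh

attribute [local instance] Nakai.clMonoid

variable {X : Scheme.{u}} (k : Type u) [Field k] [X.Over (Spec (CommRingCat.of k))]
  [IsProper (X ↘ Spec (CommRingCat.of k))] {L₀ : X.Modules} (hL₀ : CohB1.IsAmple L₀) {n : ℕ}
  (hn : topologicalKrullDim X ≤ (n : WithBot ℕ∞)) {L : X.Modules} (hL : PicF.IsInvertible L)

include hL₀ hn hL in
/-- A submodule of small support does not matter. -/
theorem hhatF_eq_of_small_left {S : ShortComplex X.Modules} (hS : S.ShortExact) (h₁ : Coh.IsCoh S.X₁)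
    (h₂ : Coh.IsCoh S.X₂) (h₃ : Coh.IsCoh S.X₃)
    (hdim : topologicalKrullDim (CohB1.support S.X₁) < (n : WithBot ℕ∞)) (i : ℕ) :
    W4c5asymptcohfn.hhatF k X n i S.X₂ L = W4c5asymptcohfn.hhatF k X n i S.X₃ L := by
  have hL' : ∀ j, PicF.IsInvertible ((![L] : Fin 1 → X.Modules) j) := fun j => by fin_cases j; exact hL
  have hb := bdd_all k _ hL' hL₀ n S.X₁ h₁ (noCh_of_dim_lt k h₁ hdim)
  obtain ⟨A, hA⟩ := hb i
  obtain ⟨A', hA'⟩ := hb (i + 1)
  rw [hhatF_eq, hhatF_eq]
  refine limsup_congr_of_close k hL' hL₀ hn h₂ i _ ⟨A + A', fun m => ?_⟩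
  have hP := Intersect.isInvertible_N hL' (m • ![1])
  have hh := h_ineq k (CohFinite.shortExact_tmap hP hS) (isCoh_twN _ hL' h₁ _) (isCoh_twN _ hL' h₂ _)
    (isCoh_twN _ hL' h₃ _) i
  have a1 := hA (m • ![1])
  have a2 := hA' (m • ![1])
  simp only [hN] at *
  rw [add_mul]
  constructor <;> omega

include hL₀ hn hL in
/-- A quotient of small support does not matter. -/
theorem hhatF_eq_of_small_right {S : ShortComplex X.Modules} (hS : S.ShortExact) (h₁ : Coh.IsCoh S.X₁)
    (h₂ : Coh.IsCoh S.X₂) (h₃ : Coh.IsCoh S.X₃)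
    (hdim : topologicalKrullDim (CohB1.support S.X₃) < (n : WithBot ℕ∞)) (i : ℕ) :
    W4c5asymptcohfn.hhatF k X n i S.X₁ L = W4c5asymptcohfn.hhatF k X n i S.X₂ L := by
  have hL' : ∀ j, PicF.IsInvertible ((![L] : Fin 1 → X.Modules) j) := fun j => by fin_cases j; exact hL
  have hb := bdd_all k _ hL' hL₀ n S.X₃ h₃ (noCh_of_dim_lt k h₃ hdim)
  obtain ⟨A, hA⟩ := hb i
  obtain ⟨A', hA'⟩ := hb (i - 1)
  rw [hhatF_eq, hhatF_eq]
  refine limsup_congr_of_close k hL' hL₀ hn h₁ i _ ⟨A + A', fun m => ?_⟩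
  have hP := Intersect.isInvertible_N hL' (m • ![1])
  have hh := h_ineq k (CohFinite.shortExact_tmap hP hS) (isCoh_twN _ hL' h₁ _) (isCoh_twN _ hL' h₂ _)
    (isCoh_twN _ hL' h₃ _) i
  have a1 := hA (m • ![1])
  have a2 := hA' (m • ![1])
  simp only [hN] at *
  rw [add_mul]
  constructor <;> omega

include hL₀ hn hL in
/-- Homogeneity. -/
theorem hhat_pow (a : ℕ) (ha : 1 ≤ a) (i : ℕ) :
    W4c5asymptcohfn.hhat k X n i (CohB1.tensorPow L a) = (a : ℝ) ^ n * W4c5asymptcohfn.hhat k X n i L := by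
  have hL' : ∀ j, PicF.IsInvertible ((![L] : Fin 1 → X.Modules) j) := fun j => by fin_cases j; exact hL
  set F := Coh.structureModule X
  haveI := CurveRR.isNoetherian_of_proper k X
  have hF : Coh.IsCoh F := Nakai.isCoh_one k
  rw [hhat_eq k n i ![L] ![a] (by simp [Nakai.cl_pow, cl_N]), hhat_eq k n i ![L] ![1] (P := L) (by simp [cl_N])]
  set u := vseq k n i ![L] F ![a]
  set v := vseq k n i ![L] F ![1]
  have ha0 : (0 : ℝ) < (a : ℝ) ^ n := pow_pos (by exact_mod_cast ha) _
  obtain ⟨K, hK⟩ := exists_vseq_bound k hL' hL₀ hn hF i ![a]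
  obtain ⟨K', hK'⟩ := exists_vseq_bound k hL' hL₀ hn hF i ![1]
  obtain ⟨C, hC⟩ := lip k ![L] hL' hL₀ hn hF i
  suffices h : limsup v atTop = limsup (fun m => u (m / a) / (a : ℝ) ^ n) atTop by
    have h1 : limsup (fun m => u (m / a) / (a : ℝ) ^ n) atTop = limsup (fun q => u q / (a : ℝ) ^ n) atTop := by
      rw [show (fun m => u (m / a) / (a : ℝ) ^ n) = (fun q => u q / (a : ℝ) ^ n) ∘ (fun m => m / a) from rfl,
        limsup_comp, map_div_atTop_eq_nat a ha]
    have h2 : limsup (fun q => u q / (a : ℝ) ^ n) atTop = limsup u atTop / (a : ℝ) ^ n :=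
      ((Monotone.map_limsup_of_continuousAt (f := fun x : ℝ => x / (a : ℝ) ^ n)
        (fun x y hxy => div_le_div_of_nonneg_right hxy ha0.le) u
        (continuous_id.div_const _).continuousAt ⟨K, eventually_map.2 hK⟩
        (isCoboundedUnder_le_of_le atTop (vseq_nonneg k n i _ F _)))).symm
    rw [h, h1, h2, mul_div_cancel₀ _ ha0.ne']
  refine limsup_eq_of_sub_tendsto (vseq_nonneg k n i _ F _) (fun m => div_nonneg (vseq_nonneg k n i _ F _ _) ha0.le)
    hK' ?_
  have hdiv : Tendsto (fun m : ℕ => m / a) atTop atTop :=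
    tendsto_map'_iff.1 (by rw [map_div_atTop_eq_nat a ha]; exact tendsto_id)
  have hlim : Tendsto (fun m : ℕ => ((((m / a : ℕ) : ℝ) * (a : ℝ)) / (m : ℝ)) ^ n) atTop (𝓝 1) := by
    have h1 : Tendsto (fun m : ℕ => ((((m / a : ℕ) : ℝ) * (a : ℝ)) / (m : ℝ))) atTop (𝓝 1) := by
      refine tendsto_iff_norm_sub_tendsto_zero.2 (squeeze_zero' (Eventually.of_forall fun m => norm_nonneg _)
        ((eventually_ge_atTop 1).mono fun m hm => ?_) (tendsto_const_div_atTop_nhds_zero_nat (a : ℝ)))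
      have hm0 : (0 : ℝ) < m := by exact_mod_cast hm
      have e1 : m / a * a ≤ m := Nat.div_mul_le_self m a
      have e2 : m ≤ m / a * a + a := by
        have := Nat.div_add_mod m a
        have := Nat.mod_lt m (show a > 0 from ha)
        rw [mul_comm (m / a)]
        omega
      have f1 : ((m / a : ℕ) : ℝ) * a ≤ m := by exact_mod_cast e1
      have f2 : (m : ℝ) ≤ ((m / a : ℕ) : ℝ) * a + a := by exact_mod_cast e2
      rw [Real.norm_eq_abs, div_sub_one hm0.ne', abs_div, abs_of_pos hm0]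
      refine div_le_div_of_nonneg_right ?_ hm0.le
      rw [abs_le]
      constructor <;> linarith
    simpa using h1.pow n
  have t1 : Tendsto (fun m => (((((m / a : ℕ) : ℝ) * (a : ℝ)) / (m : ℝ)) ^ n - 1) * (u (m / a) / (a : ℝ) ^ n))
      atTop (𝓝 0) := by
    have h0 := tendsto_sub_nhds_zero_iff.2 hlim
    refine squeeze_zero_norm' ((hdiv.eventually hK).mono fun m hm => ?_)
      (by simpa using h0.abs.mul_const (K / (a : ℝ) ^ n))
    rw [Real.norm_eq_abs, abs_mul]
    refine mul_le_mul_of_nonneg_left ?_ (abs_nonneg _)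
    rw [abs_of_nonneg (div_nonneg (vseq_nonneg k n i _ F _ _) ha0.le)]
    exact div_le_div_of_nonneg_right hm ha0.le
  have t2 : Tendsto (fun m => ((hN k ![L] F i (m • ![1]) : ℝ) - (hN k ![L] F i ((m / a) • ![a]) : ℝ)) *
      n.factorial / (m : ℝ) ^ n) atTop (𝓝 0) := by
    refine tendsto_of_abs_le (C := a * C * n.factorial) (c := 1) (n' := n) fun m => ?_
    rcases Nat.eq_zero_or_pos m with rfl | hm
    · rcases Nat.eq_zero_or_pos n with rfl | hn0
      · simp [poly]
      · simp [zero_pow hn0.ne']; positivity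
    have hm0 : (0 : ℝ) < (m : ℝ) ^ n := pow_pos (by exact_mod_cast hm) _
    have e1 : m / a * a ≤ m := Nat.div_mul_le_self m a
    have e2 : m ≤ m / a * a + a := by
      have := Nat.div_add_mod m a
      have := Nat.mod_lt m (show a > 0 from ha)
      rw [mul_comm (m / a)]
      omega
    have hd : (∑ j : Fin 1, Nat.dist ((m • ![1]) j) (((m / a) • ![a]) j)) ≤ a := by
      simp [Nat.dist]; omega
    have hd' : (∑ j : Fin 1, Nat.dist (((m / a) • ![a]) j) ((m • ![1]) j)) ≤ a := by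
      simp [Nat.dist]; omega
    have s1 : size (m • ![1]) ≤ m * 1 + 1 := by simp [size]
    have s2 : size ((m / a) • ![a]) ≤ m * 1 + 1 := by simp [size]; omega
    have g1 := (hC _ _ _ s1 s2).trans (Nat.add_le_add_left (Nat.mul_le_mul_right _ hd) _)
    have g2 := (hC _ _ _ s2 s1).trans (Nat.add_le_add_left (Nat.mul_le_mul_right _ hd') _)
    have r1 : (hN k ![L] F i (m • ![1]) : ℝ) ≤ (hN k ![L] F i ((m / a) • ![a]) : ℝ) +
        (a : ℝ) * ((C : ℝ) * (poly n (m * 1 + 1) : ℝ)) := by exact_mod_cast g1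
    have r2 : (hN k ![L] F i ((m / a) • ![a]) : ℝ) ≤ (hN k ![L] F i (m • ![1]) : ℝ) +
        (a : ℝ) * ((C : ℝ) * (poly n (m * 1 + 1) : ℝ)) := by exact_mod_cast g2
    rw [abs_div, abs_of_pos hm0, div_mul_cancel₀ _ hm0.ne', abs_mul, Nat.abs_cast, Nat.cast_mul, Nat.cast_mul,
      mul_right_comm]
    refine mul_le_mul_of_nonneg_right ?_ (Nat.cast_nonneg _)
    rw [abs_le]
    constructor <;> nlinarith
  have hsum := t2.add t1
  rw [add_zero] at hsum
  refine hsum.congr' ((eventually_ge_atTop a).mono fun m hm => ?_)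
  have hq : (0 : ℝ) < ((m / a : ℕ) : ℝ) := by exact_mod_cast Nat.div_pos hm ha
  have hm0 : (0 : ℝ) < (m : ℝ) := by exact_mod_cast lt_of_lt_of_le ha hm
  simp only [u, v, vseq]
  generalize (hN k ![L] F i (m • ![1]) : ℝ) = A
  generalize (hN k ![L] F i ((m / a) • ![a]) : ℝ) = B
  generalize ((m / a : ℕ) : ℝ) = q at hq
  rw [div_pow, mul_pow]
  field_simp
  ring

end Groth.Agent.AsympCoh
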