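import Groth.Agent.AsympCoh.Apps
import Groth.Agent.FreeJ.Grothendieck
import Groth.Agent.CurveRR.Tensor
import Groth.Agent.TMul.Power
import Mathlib.GroupTheory.CosetCover

/-!
Higher cohomology of powers of a module above the dimension of its stable base locus.
-/

set_option autoImplicit false
set_option linter.unusedSectionVars false
set_option linter.style.haveILetI false
set_option backward.isDefEq.respectTransparency false
set_option backward.isDefEq.respectTransparency.types false
set_option maxHeartbeats 1000000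

universe u

open CategoryTheory CategoryTheory.Limits AlgebraicGeometry TopologicalSpace Filter Topology
open Groth.Agent.QC (res resO res_smul)

noncomputable section

namespace Groth.Agent.AsympCoh

attribute [local instance] Nakai.clMonoid

variable {X : Scheme.{u}} (k : Type u) [Field k] [X.Over (Spec (CommRingCat.of k))]

/-- A combination of finitely many sections avoiding finitely many points. -/
theorem exists_section_avoid [Infinite k] {M : X.Modules} (hM : PicF.IsInvertible M) {N : ℕ}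
    (t : Fin N → (Coh.structureModule X ⟶ M)) {Z : Set X} (hZf : Z.Finite)
    (hZ : ∀ w ∈ Z, ∃ j, w ∈ CohB1.genLocus M (t j)) :
    ∃ s : Coh.structureModule X ⟶ M, Z ⊆ CohB1.genLocus M s := by
  classical
  let cst : k →+* Γ(X, ⊤) := Coh.toGlobal (X ↘ Spec (CommRingCat.of k))
  let comb : (Fin N → k) → (Coh.structureModule X ⟶ M) := fun a =>
    TMul.homOf (∑ j, cst (a j) • TMul.val (t j) ⊤)
  have key : ∀ w ∈ Z, ∃ K : Submodule k (Fin N → k), K ≠ ⊤ ∧ ∀ a, a ∉ K → w ∈ CohB1.genLocus M (comb a) := by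
    intro w hw
    obtain ⟨D, g, hwD, hg⟩ := TMul.exists_isGen hM w
    have hc : ∀ j, ∃ c : Γ(X, D), TMul.val (t j) D = c • g := fun j => by
      obtain ⟨c, hc⟩ := (hg D le_rfl).2 (TMul.val (t j) D)
      exact ⟨c, by simpa [Groth.Agent.QC.res_self] using hc.symm⟩
    choose c hc using hc
    let ev : Γ(X, D) →+* X.residueField w := (X.residue w).hom.comp (X.presheaf.germ D w hwD).hom
    have hev : ∀ b : Γ(X, D), w ∈ X.basicOpen b ↔ ev b ≠ 0 := fun b => by
      rw [Scheme.mem_basicOpen _ _ _ hwD]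
      exact (IsLocalRing.residue_ne_zero_iff_isUnit _).symm
    let φ : (Fin N → k) → X.residueField w := fun a =>
      ∑ j, ev (resO X (le_top : D ≤ ⊤) (cst (a j))) * ev (c j)
    let K : Submodule k (Fin N → k) :=
      { carrier := {a | φ a = 0}
        add_mem' := fun {a b} ha hb => by
          change φ (a + b) = 0
          have e : φ (a + b) = φ a + φ b := by
            simp only [φ, Pi.add_apply, map_add, add_mul, Finset.sum_add_distrib]
          rw [e, show φ a = 0 from ha, show φ b = 0 from hb, add_zero]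
        zero_mem' := by simp [φ]
        smul_mem' := fun r a ha => by
          change φ (r • a) = 0
          have e : φ (r • a) = ev (resO X (le_top : D ≤ ⊤) (cst r)) * φ a := by
            simp only [φ, Pi.smul_apply, smul_eq_mul, map_mul, Finset.mul_sum, mul_assoc]
          rw [e, show φ a = 0 from ha, mul_zero] }
    have hiff : ∀ a, φ a ≠ 0 → w ∈ CohB1.genLocus M (comb a) := fun a ha => by
      have hval : TMul.val (comb a) D = (∑ j, resO X (le_top : D ≤ ⊤) (cst (a j)) * c j) • g := by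
        rw [TMul.val_homOf, map_sum, Finset.sum_smul]
        refine Finset.sum_congr rfl fun j _ => ?_
        rw [res_smul, TMul.res_val, hc, smul_smul]
      have h := TMul.genLocus_inf (comb a) hg hval
      have h' : w ∈ X.basicOpen (∑ j, resO X (le_top : D ≤ ⊤) (cst (a j)) * c j) := by
        rw [hev, map_sum]
        simpa only [φ, map_mul] using ha
      rw [← h] at h'
      exact h'.2
    refine ⟨K, fun htop => ?_, fun a ha => hiff a ha⟩
    obtain ⟨j, hj⟩ := hZ w hw
    have h1 : w ∈ X.basicOpen (c j) := (TMul.genLocus_inf (t j) hg (hc j)).le ⟨hwD, hj⟩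
    have h2 : φ (Pi.single j 1) = 0 := (htop.ge (trivial : Pi.single j (1 : k) ∈ (⊤ : Submodule k (Fin N → k))))
    simp only [φ] at h2
    rw [Finset.sum_eq_single j (fun i _ hi => by simp [Pi.single_eq_of_ne hi])
      (fun h => absurd (Finset.mem_univ j) h)] at h2
    simp only [Pi.single_eq_same, map_one, one_mul] at h2
    exact (hev _).1 h1 h2
  choose K hKt hK using key
  let S : Finset (Submodule k (Fin N → k)) := hZf.toFinset.attach.image fun w => K w.1 (hZf.mem_toFinset.1 w.2)
  have hne := Subspace.biUnion_ne_univ_of_top_notMem (s := (S : Finset (Subspace k (Fin N → k)))) (by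
    simp only [S, Finset.mem_image, not_exists, not_and]
    exact fun w _ => hKt _ _)
  obtain ⟨a, ha⟩ := (Set.ne_univ_iff_exists_notMem _).1 hne
  refine ⟨comb a, fun w hw => hK w hw a fun h => ha ?_⟩
  exact Set.mem_iUnion₂.2 ⟨K w hw, Finset.mem_image.2 ⟨⟨w, hZf.mem_toFinset.2 hw⟩, Finset.mem_attach _ _, rfl⟩, h⟩

/-- Finitely many sections of one power cut out the stable base locus. -/
theorem exists_power_sections [IsNoetherian X] {L : X.Modules} (hL : PicF.IsInvertible L) :
    ∃ (p N : ℕ) (t : Fin N → (Coh.structureModule X ⟶ CohB1.tensorPow L (p + 1))),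
      ∀ x ∉ W4c5asymptcohfn.stableBaseLocus X L, ∃ j, x ∈ CohB1.genLocus _ (t j) := by
  classical
  let I := Σ m : ℕ, (Coh.structureModule X ⟶ CohB1.tensorPow L (m + 1))
  let U : I → X.Opens := fun i => CohB1.genLocus _ i.2
  have hcov : ((iSup U : X.Opens) : Set X) ⊆ ⋃ i, (U i : Set X) := by rw [Opens.coe_iSup]
  obtain ⟨T, hT⟩ := (NoetherianSpace.isCompact ((iSup U : X.Opens) : Set X)).elim_finite_subcover
    (fun i => (U i : Set X)) (fun i => (U i).isOpen) hcov
  let q : ℕ := ∏ i ∈ T, (i.1 + 1)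
  have hq : 0 < q := Finset.prod_pos fun i _ => Nat.succ_pos _
  have key : ∀ i ∈ T, ∃ t : Coh.structureModule X ⟶ CohB1.tensorPow L (q - 1 + 1),
      U i ≤ CohB1.genLocus _ t := fun i hi => by
    obtain ⟨r, hr⟩ : (i.1 + 1) ∣ q := Finset.dvd_prod_of_mem _ hi
    have hr0 : 0 < r := Nat.pos_of_mul_pos_left (hr ▸ hq)
    obtain ⟨r', rfl⟩ : ∃ r', r = r' + 1 := ⟨r - 1, by omega⟩
    obtain ⟨e⟩ : Nonempty (CohB1.tensorPow (CohB1.tensorPow L (i.1 + 1)) (r' + 1) ≅ CohB1.tensorPow L (q - 1 + 1)) := by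
      refine (PicGrp.cl_eq_cl_iff _ _).1 ?_
      rw [Nakai.cl_pow, Nakai.cl_pow, Nakai.cl_pow, ← pow_mul, ← hr, Nat.sub_add_cancel hq]
    refine ⟨SecTwist.powHom i.2 (r' + 1) ≫ e.hom, fun x hx => ?_⟩
    rw [TMul.genLocus_comp]
    exact (TMul.genLocus_powHom (TMul.isInvertible_tensorPow hL (i.1 + 1)) i.2 r').ge hx
  choose t ht using key
  refine ⟨q - 1, T.card, fun j => t (T.equivFin.symm j).1 (T.equivFin.symm j).2, fun x hx => ?_⟩
  have hxU : x ∈ ((iSup U : X.Opens) : Set X) := by
    simp only [W4c5asymptcohfn.stableBaseLocus, W4c5asymptcohfn.baseLocus, Set.mem_iInter, Set.mem_setOf_eq,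
      not_forall, not_not] at hx
    obtain ⟨m, s, hs⟩ := hx
    exact Opens.mem_iSup.2 ⟨⟨m, s⟩, hs⟩
  obtain ⟨i, hi⟩ := Set.mem_iUnion.1 (hT hxU)
  obtain ⟨hiT, hxi⟩ := Set.mem_iUnion.1 hi
  refine ⟨T.equivFin ⟨i, hiT⟩, ?_⟩
  simp only [Equiv.symm_apply_apply]
  exact ht i hiT hxi

variable [IsProper (X ↘ Spec (CommRingCat.of k))]

/-- No cohomology above the dimension of the support. -/
theorem h_eq_zero_of_noCh {P : X.Modules} (hP : Coh.IsCoh P) {e i : ℕ} (he : NoCh k P e) (hei : e ≤ i) :
    CurveRR.h k P i = 0 := by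
  haveI := CurveRR.isNoetherian_of_proper k X
  have hc := Groth.Agent.QC.isClosed_support hP.2
  refine CurveRR.h_eq_zero ?_
  refine FreeJ.subsingleton_H_of_support (G := Coh.toAb P) ⟨(CohB1.support P)ᶜ, hc.isOpen_compl⟩
    (fun x hx => CurveRR.subsingleton_stalk hx) i fun M => ?_
  haveI : NoetherianSpace X := inferInstance
  haveI : NoetherianSpace (TopCat.of (((CohB1.support P)ᶜ)ᶜ : Set X)) := NoetherianSpace.set _
  refine FreeJ.vanishes e (TopCat.of (((CohB1.support P)ᶜ)ᶜ : Set X)) ?_ M i hei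
  show topologicalKrullDim (((CohB1.support P)ᶜ)ᶜ : Set X) < _
  rw [compl_compl]
  by_contra hcon
  obtain ⟨c, hcm, hcc⟩ := Intersect.exists_chain_closed hc (not_lt.1 hcon)
  exact he c (fun j => ⟨hcm j, Subsingleton.elim _ _⟩) hcc

/-- The bound above the dimension of the base locus. -/
theorem bdd_above_base [Infinite k] {M : X.Modules} (hM : PicF.IsInvertible M) {B : Set X} (hB : IsClosed B)
    {d : ℕ} (hd : topologicalKrullDim B ≤ (d : WithBot ℕ∞)) {N : ℕ}
    (t : Fin N → (Coh.structureModule X ⟶ M)) (ht : ∀ x ∉ B, ∃ j, x ∈ CohB1.genLocus M (t j)) :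
    ∀ (e : ℕ) (F : X.Modules), Coh.IsCoh F → NoCh k F (e + 1) → ∀ i, d < i →
      ∃ C : ℕ, ∀ m : ℕ, CurveRR.h k (CohB1.tensorMod F (CohB1.tensorPow M m)) i ≤ C * poly e m
  | 0, F, hF, he, i, hi => ⟨0, fun m => by
      haveI := CurveRR.isNoetherian_of_proper k X
      have hPi := TMul.isInvertible_tensorPow hM m
      rw [h_eq_zero_of_noCh k (CohFinite.isCoh_tensor hF hPi)
        (CohBound.noChain_of_support_subset (CohBound.support_tensor_invertible hF hPi).le he) (by omega)]
      exact Nat.zero_le _⟩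
  | e + 1, F, hF, he, i, hi => by
    haveI := CurveRR.isNoetherian_of_proper k X
    by_cases hle : e + 2 ≤ i
    · refine ⟨0, fun m => ?_⟩
      have hPi := TMul.isInvertible_tensorPow hM m
      rw [h_eq_zero_of_noCh k (CohFinite.isCoh_tensor hF hPi)
        (CohBound.noChain_of_support_subset (CohBound.support_tensor_invertible hF hPi).le he) hle]
      exact Nat.zero_le _
    obtain ⟨Z, hZf, hZ, hgen⟩ := CohBound.exists_max_points (Groth.Agent.QC.isClosed_support hF.2)
    obtain ⟨s, hs⟩ := exists_section_avoid k hM t (hZf.subset Set.diff_subset) (fun w hw => ht w hw.2)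
      (Z := Z \ B)
    have small : ∀ P : X.Modules, Coh.IsCoh P → (∀ x ∈ CohB1.support P, x ∈ CohB1.support F ∧
        x ∉ CohB1.genLocus M s) → NoCh k P (e + 1) := fun P hP hPs c hc hcc => by
      obtain ⟨w, hwZ, hw⟩ := hgen _ (hPs _ (hc (Fin.last _)).1).1
      have hspec : ∀ j, w ⤳ c j := fun j => by
        rcases (Fin.le_last j).lt_or_eq with h | h
        · exact hw.trans (hcc _ _ h).1
        · rw [h]; exact hw
      by_cases hwB : w ∈ B
      · have h1 := Intersect.le_dim_closed_of_chain hB c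
          (fun j => (hspec j).mem_closed hB hwB) hcc
        have h2 : ((e + 1 : ℕ) : WithBot ℕ∞) ≤ (d : WithBot ℕ∞) := h1.trans hd
        have h3 : e + 1 ≤ d := by exact_mod_cast h2
        omega
      · have hne : ∀ j, c j ≠ w := fun j e' => (hPs _ (hc j).1).2 (e' ▸ hs ⟨hwZ, hwB⟩)
        refine he (Fin.snoc c w) (fun j => ⟨?_, Subsingleton.elim _ _⟩) fun a b hab => ?_
        · refine Fin.lastCases ?_ (fun j => ?_) j
          · rw [Fin.snoc_last]; exact hZ hwZ
          · rw [Fin.snoc_castSucc]; exact (hPs _ (hc j).1).1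
        · revert hab
          refine Fin.lastCases ?_ (fun a => ?_) a
          · intro hab; exact absurd hab (not_lt.2 (Fin.le_last _))
          · refine Fin.lastCases ?_ (fun b => ?_) b
            · intro _; rw [Fin.snoc_castSucc, Fin.snoc_last]; exact ⟨hspec a, hne a⟩
            · intro hab; rw [Fin.snoc_castSucc, Fin.snoc_castSucc]
              exact hcc a b (Fin.castSucc_lt_castSucc_iff.1 hab)
    have hG := CohFinite.isCoh_tensor hF hM
    obtain ⟨T₁, T₂, h₁, h₂, ⟨e₁⟩, ⟨e₂⟩, ⟨e₃⟩, hK, hI, hQ, hKs, hQs, hiso⟩ :=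
      CohBound.exists_two_seq hF hG (CohBound.mulSec F s)
    obtain ⟨A, hA⟩ := bdd_above_base hM hB hd t ht e T₁.X₁ hK (small _ hK fun x hx =>
      ⟨hKs hx, fun hg => (hiso x (CohBound.isIso_stalk_mulSec F s hg)).1 hx⟩) (i + 1) (by omega)
    obtain ⟨B', hB'⟩ := bdd_above_base hM hB hd t ht e T₂.X₃ hQ (small _ hQ fun x hx =>
      ⟨(CohBound.support_tensor_invertible hF hM).le (hQs hx),
        fun hg => (hiso x (CohBound.isIso_stalk_mulSec F s hg)).2 hx⟩) i hi
    have step : ∀ m, CurveRR.h k (CohB1.tensorMod F (CohB1.tensorPow M (m + 1))) i ≤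
        CurveRR.h k (CohB1.tensorMod F (CohB1.tensorPow M m)) i + (A + B') * (e * (m + 1) ^ (e - 1)) := fun m => by
      have hP := TMul.isInvertible_tensorPow hM m
      have k₁ := (h_ineq k (CohFinite.shortExact_tmap hP h₁) (CohFinite.isCoh_tensor hK hP)
        (CohFinite.isCoh_tensor (CohFinite.isCoh_of_iso e₁.symm hF) hP) (CohFinite.isCoh_tensor hI hP) i).2.1
      have k₂ := (h_ineq k (CohFinite.shortExact_tmap hP h₂) (CohFinite.isCoh_tensor (CohFinite.isCoh_of_iso e₃ hI) hP)
        (CohFinite.isCoh_tensor (CohFinite.isCoh_of_iso e₂.symm hG) hP) (CohFinite.isCoh_tensor hQ hP) i).1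
      have q₁ := CurveRR.h_eq_of_iso (k := k) (PicGrp.tensorModIso e₁ (Iso.refl (CohB1.tensorPow M m))) i
      have q₂ := CurveRR.h_eq_of_iso (k := k) (PicGrp.tensorModIso e₂ (Iso.refl (CohB1.tensorPow M m))) i
      have q₃ := CurveRR.h_eq_of_iso (k := k) (PicGrp.tensorModIso e₃ (Iso.refl (CohB1.tensorPow M m))) i
      have q₄ : CurveRR.h k (CohB1.tensorMod (CohB1.tensorMod F M) (CohB1.tensorPow M m)) i =
          CurveRR.h k (CohB1.tensorMod F (CohB1.tensorPow M (m + 1))) i :=
        Nakai.h_congr k (by simp [Nakai.cl_tensor, Nakai.cl_pow, pow_succ']; ac_rfl) i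
      have a1 := hA m
      have a2 := hB' m
      simp only [poly] at a1 a2
      rw [add_mul]
      dsimp only at k₁ k₂
      omega
    refine ⟨CurveRR.h k (CohB1.tensorMod F (CohB1.tensorPow M 0)) i + (A + B'), fun m => (CohBound.sum_step (a := fun m => CurveRR.h k (CohB1.tensorMod F (CohB1.tensorPow M m)) i)
      step m).trans (le_of_eq ?_)⟩
    rw [poly, Nat.add_sub_cancel]

/-- Vanishing of the asymptotic cohomology above the dimension of the stable base locus. -/
theorem hhat_eq_zero_of_base [Infinite k] {n : ℕ} (hn : topologicalKrullDim X ≤ (n : WithBot ℕ∞)) {L : X.Modules}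
    (hL : PicF.IsInvertible L) {d : ℕ}
    (hd : topologicalKrullDim ↥(W4c5asymptcohfn.stableBaseLocus X L) ≤ (d : WithBot ℕ∞)) {i : ℕ} (hi : d < i) :
    W4c5asymptcohfn.hhat k X n i L = 0 := by
  haveI := CurveRR.isNoetherian_of_proper k X
  obtain ⟨p, N, t, ht⟩ := exists_power_sections hL
  have hBc : IsClosed (W4c5asymptcohfn.stableBaseLocus X L) := isClosed_iInter fun m => by
    have e : W4c5asymptcohfn.baseLocus X (CohB1.tensorPow L (m + 1)) =
        ⋂ s, ((CohB1.genLocus (CohB1.tensorPow L (m + 1)) s : X.Opens) : Set X)ᶜ :=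
      Set.ext fun x => by simp [W4c5asymptcohfn.baseLocus]
    rw [e]
    exact isClosed_iInter fun s => (CohB1.genLocus _ s).isOpen.isClosed_compl
  have hO : Coh.IsCoh (Coh.structureModule X) := Nakai.isCoh_one k
  have hb : ∀ r : Fin (p + 1), ∃ C : ℕ, ∀ m : ℕ,
      CurveRR.h k (CohB1.tensorMod (CohB1.tensorPow L r.1) (CohB1.tensorPow (CohB1.tensorPow L (p + 1)) m)) i ≤
        C * poly n m := fun r => by
    have hr := TMul.isInvertible_tensorPow hL r.1
    exact bdd_above_base k (TMul.isInvertible_tensorPow hL (p + 1)) hBc hd t ht n _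
      ⟨TMul.isQCoh_of_isInvertible hr, TMul.isFT_of_isInvertible hr⟩ (noCh_top k hn _) i hi
  choose C hC using hb
  rw [hhat_eq k n i ![L] ![1] (P := L) (by simp [cl_N])]
  rcases Nat.eq_zero_or_pos n with rfl | hn0
  · refine Tendsto.limsup_eq (tendsto_const_nhds.congr fun m => ?_)
    simp only [vseq, hN]
    rw [h_eq_zero_of_noCh k (CohFinite.isCoh_tensor hO
      (Intersect.isInvertible_N (fun j => by fin_cases j; exact hL) _)) (noCh_top k hn _) (by omega)]
    simp
  refine Tendsto.limsup_eq (tendsto_of_abs_le (C := (∑ r, C r) * n.factorial) (c := 1) (n' := n) fun m => ?_)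
  rcases Nat.eq_zero_or_pos m with rfl | hm
  · simp [zero_pow hn0.ne']; positivity
  rw [abs_of_nonneg (vseq_nonneg k n i _ _ _ m), vseq, div_mul_cancel₀ _ (pow_ne_zero _ (by exact_mod_cast hm.ne'))]
  have h1 : hN k ![L] (Coh.structureModule X) i (m • ![1]) ≤ (∑ r, C r) * poly n (m * 1 + 1) := by
    let r : Fin (p + 1) := ⟨m % (p + 1), Nat.mod_lt _ (Nat.succ_pos _)⟩
    have e : hN k ![L] (Coh.structureModule X) i (m • ![1]) = CurveRR.h k (CohB1.tensorMod (CohB1.tensorPow L r.1)
        (CohB1.tensorPow (CohB1.tensorPow L (p + 1)) (m / (p + 1)))) i := by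
      refine Nakai.h_congr k ?_ i
      rw [Nakai.cl_tensor, Nakai.cl_tensor, show PicF.cl (Coh.structureModule X) = 1 from rfl, one_mul, cl_N,
        Fin.prod_univ_one, Nakai.cl_pow, Nakai.cl_pow, Nakai.cl_pow, ← pow_mul, ← pow_add, Nat.mod_add_div]
      simp
    rw [e]
    refine (hC r _).trans (Nat.mul_le_mul (Finset.single_le_sum (fun _ _ => Nat.zero_le _) (Finset.mem_univ r)) ?_)
    exact poly_mono n ((Nat.div_le_self m (p + 1)).trans (by omega))
  calc _ ≤ (((∑ r, C r) * poly n (m * 1 + 1) : ℕ) : ℝ) * (n.factorial : ℝ) :=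
        mul_le_mul_of_nonneg_right (by exact_mod_cast h1) (Nat.cast_nonneg _)
    _ = _ := by push_cast; ring

end Groth.Agent.AsympCoh
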