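import Groth.Agent.CohBound.Induct
import Groth.Agent.Intersect.Apps
import Groth.Agent.NegTwist.Sections
import Groth.Agent.Nakai.Main

/-!
Growth and variation of the cohomology of twists by monomials in finitely many invertible modules.
-/

set_option autoImplicit false
set_option linter.unusedSectionVars false
set_option linter.style.haveILetI false
set_option backward.isDefEq.respectTransparency false
set_option backward.isDefEq.respectTransparency.types false
set_option maxHeartbeats 1000000

universe u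

open CategoryTheory CategoryTheory.Limits AlgebraicGeometry TopologicalSpace

noncomputable section

namespace Groth.Agent.AsympCoh

attribute [local instance] Nakai.clMonoid

variable {X : Scheme.{u}} {s : ℕ}

/-- The classes of monomials. -/
theorem cl_N : ∀ {s : ℕ} (L : Fin s → X.Modules) (a : Fin s → ℕ),
    PicF.cl (Intersect.N L a) = ∏ j, PicF.cl (L j) ^ a j
  | 0, _, _ => by simp [Intersect.N, Curv2.tensorPows]; rfl
  | s + 1, L, a => by
    rw [Fin.prod_univ_castSucc, ← cl_N (fun i => L i.castSucc) fun i => a i.castSucc, ← Nakai.cl_pow]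
    rfl

theorem cl_N_add (L : Fin s → X.Modules) (a b : Fin s → ℕ) :
    PicF.cl (Intersect.N L (a + b)) = PicF.cl (Intersect.N L a) * PicF.cl (Intersect.N L b) := by
  simp only [cl_N, Pi.add_apply, pow_add, Finset.prod_mul_distrib]

theorem cl_N_smul (L : Fin s → X.Modules) (a : Fin s → ℕ) (m : ℕ) :
    PicF.cl (Intersect.N L (m • a)) = PicF.cl (Intersect.N L a) ^ m := by
  simp only [cl_N, Pi.smul_apply, smul_eq_mul, mul_comm m, pow_mul, Finset.prod_pow]

theorem cl_N_single (L : Fin s → X.Modules) (j : Fin s) (m : ℕ) :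
    PicF.cl (Intersect.N L (Pi.single j m)) = PicF.cl (L j) ^ m := by
  rw [cl_N, Finset.prod_eq_single j]
  · simp
  · intro i _ hi; simp [hi]
  · simp

variable (k : Type u) [Field k] [X.Over (Spec (CommRingCat.of k))]

/-- The dimension of the cohomology of a monomial twist. -/
def hN (L : Fin s → X.Modules) (F : X.Modules) (i : ℕ) (a : Fin s → ℕ) : ℕ :=
  CurveRR.h k (CohB1.tensorMod F (Intersect.N L a)) i

/-- The structure morphism. -/
abbrev str : X ⟶ Spec (CommRingCat.of k) := X ↘ Spec (CommRingCat.of k)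

theorem hη (t : Spec (CommRingCat.of k)) : (⊥ : PrimeSpectrum k) ⤳ t :=
  (PrimeSpectrum.le_iff_specializes _ _).1 bot_le

/-- The support has no chain of `d + 1` points. -/
abbrev NoCh (F : X.Modules) (d : ℕ) : Prop :=
  CohBound.NoChain (str (X := X) k) (⊥ : PrimeSpectrum k) F d

theorem noCh_of_dim_lt [IsProper (str (X := X) k)] {F : X.Modules} (hF : Coh.IsCoh F) {d : ℕ}
    (h : topologicalKrullDim (CohB1.support F) < (d : WithBot ℕ∞)) : NoCh k F d := fun c hc hcc =>
  haveI := CurveRR.isNoetherian_of_proper k X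
  not_le.2 h (Intersect.le_dim_closed_of_chain (Groth.Agent.QC.isClosed_support hF.2) c (fun i => (hc i).1) hcc)

theorem noCh_top {n : ℕ} (hn : topologicalKrullDim X ≤ (n : WithBot ℕ∞)) (F : X.Modules) : NoCh k F (n + 1) :=
  fun c _ hcc => absurd ((Intersect.le_dim_of_chain c hcc).trans hn) (by norm_cast; omega)

variable [IsProper (X ↘ Spec (CommRingCat.of k))]

theorem h_zero_of_noCh_zero {F : X.Modules} (hF : Coh.IsCoh F) (h : NoCh k F 0) {P : X.Modules}
    (i : ℕ) : CurveRR.h k (CohB1.tensorMod F P) i = 0 := by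
  haveI := CurveRR.isNoetherian_of_proper k X
  have hz : IsZero F := by
    refine GrT.isZero_modules_of_subsingleton fun U s => ?_
    refine WeakAssLib.ext_germ F s fun x hx => ?_
    haveI : Subsingleton (F.presheaf.stalk x) := by
      by_contra hne
      exact h (fun _ => x) (fun _ => ⟨hne, Subsingleton.elim _ _⟩) fun a b hab => absurd hab (by omega)
    exact Subsingleton.elim _ _
  have hz' : IsZero (CohB1.tensorMod F P) :=
    (IsZero.iff_id_eq_zero _).2 (by rw [← CohFinite.tmap_id, (IsZero.iff_id_eq_zero _).1 hz, CohFinite.tmap_zero])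
  refine CurveRR.h_eq_zero (subsingleton_of_forall_eq 0 fun x => ?_)
  rw [← CohFinite.hhMap_id k _ i x, show 𝟙 (CohB1.tensorMod F P) = 0 from (IsZero.iff_id_eq_zero _).1 hz']
  show Sheaf.H.map (CohFinite.toAbMap (0 : CohB1.tensorMod F P ⟶ CohB1.tensorMod F P)) i x = 0
  rw [CohFinite.toAbMap, Functor.map_zero]
  rw [Sheaf.H.map_apply, Abelian.Ext.mk₀_zero, Abelian.Ext.comp_zero]

/-- The three inequalities in a short exact sequence. -/
theorem h_ineq {S : ShortComplex X.Modules} (hS : S.ShortExact) (h₁ : Coh.IsCoh S.X₁) (h₂ : Coh.IsCoh S.X₂)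
    (h₃ : Coh.IsCoh S.X₃) (i : ℕ) :
    CurveRR.h k S.X₂ i ≤ CurveRR.h k S.X₁ i + CurveRR.h k S.X₃ i ∧
      CurveRR.h k S.X₃ i ≤ CurveRR.h k S.X₂ i + CurveRR.h k S.X₁ (i + 1) ∧
      CurveRR.h k S.X₁ i ≤ CurveRR.h k S.X₂ i + CurveRR.h k S.X₃ (i - 1) := by
  have hf₁ : ∀ i, Module.Finite k (Coh.HH X S.X₁ i) := CohFinite.finite_proper k X _ h₁
  have hf₂ : ∀ i, Module.Finite k (Coh.HH X S.X₂ i) := CohFinite.finite_proper k X _ h₂
  have hf₃ : ∀ i, Module.Finite k (Coh.HH X S.X₃ i) := CohFinite.finite_proper k X _ h₃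
  have e1 := fun i => by
    have h := (CohFinite.hhMap k S.f i).finrank_range_add_finrank_ker
    rw [CurveRR.range_f_eq_ker_g hS i] at h
    exact h
  have e2 := fun i => by
    have h := (CohFinite.hhMap k S.g i).finrank_range_add_finrank_ker
    rw [CurveRR.range_g_eq_ker_δ hS i] at h
    exact h
  have e3 := fun i => by
    have h := (CohFinite.hhδ k hS i).finrank_range_add_finrank_ker
    rw [CurveRR.range_δ_eq_ker_f hS i] at h
    exact h
  rcases i with _ | i
  · have h0 : Module.finrank k (LinearMap.ker (CohFinite.hhMap k S.f 0)) = 0 := by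
      rw [LinearMap.ker_eq_bot.2 (CurveRR.injective_f hS), finrank_bot]
    have := e1 0; have := e2 0; have := e3 0; have := e1 (0 + 1)
    simp only [CurveRR.h] at *
    refine ⟨?_, ?_, ?_⟩ <;> omega
  · rw [show i + 1 - 1 = i from rfl]
    have := e1 (i + 1); have := e2 (i + 1); have := e3 (i + 1); have := e1 (i + 1 + 1); have := e3 i
    simp only [CurveRR.h] at *
    refine ⟨?_, ?_, ?_⟩ <;> omega

variable (L : Fin s → X.Modules) (hL : ∀ j, PicF.IsInvertible (L j))

include hL in
theorem isCoh_twN {F : X.Modules} (hF : Coh.IsCoh F) (a : Fin s → ℕ) :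
    Coh.IsCoh (CohB1.tensorMod F (Intersect.N L a)) :=
  CohFinite.isCoh_tensor hF (Intersect.isInvertible_N hL a)

theorem hN_congr {F G : X.Modules} (e : F ≅ G) (i : ℕ) (a : Fin s → ℕ) : hN k L F i a = hN k L G i a :=
  CurveRR.h_eq_of_iso (PicGrp.tensorModIso e (Iso.refl _)) i

/-- The total size of an exponent. -/
def size (a : Fin s → ℕ) : ℕ := ∑ j, a j

/-- The size of the pieces. -/
def poly (d M : ℕ) : ℕ := d * (M + 1) ^ (d - 1)

theorem poly_mono (d : ℕ) {M M' : ℕ} (h : M ≤ M') : poly d M ≤ poly d M' :=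
  Nat.mul_le_mul_left _ (Nat.pow_le_pow_left (by omega) _)

/-- The bound for modules without chains of `d + 1` points in the support. -/
def Bdd (F : X.Modules) (d : ℕ) : Prop :=
  ∀ i : ℕ, ∃ C : ℕ, ∀ a : Fin s → ℕ, hN k L F i a ≤ C * poly d (size a)

include hL in
/-- Two modules which agree at the maximal points of a support have nearly the same cohomology. -/
theorem compare {F G : X.Modules} (hF : Coh.IsCoh F) (hG : Coh.IsCoh G) (φ : F ⟶ G) {d : ℕ}
    (hsmall : ∀ P : X.Modules, Coh.IsCoh P →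
      (∀ x ∈ CohB1.support P, (x ∈ CohB1.support F ∨ x ∈ CohB1.support G) ∧
        ¬ IsIso ((DerSch.stalkFunctor X x).map φ)) → Bdd k L P d) (i : ℕ) :
    ∃ C : ℕ, ∀ a : Fin s → ℕ, hN k L F i a ≤ hN k L G i a + C * poly d (size a) ∧
      hN k L G i a ≤ hN k L F i a + C * poly d (size a) := by
  haveI := CurveRR.isNoetherian_of_proper k X
  obtain ⟨T₁, T₂, h₁, h₂, ⟨e₁⟩, ⟨e₂⟩, ⟨e₃⟩, hK, hI, hQ, hKs, hQs, hiso⟩ := CohBound.exists_two_seq hF hG φ
  have bK := hsmall _ hK fun x hx => ⟨Or.inl (hKs hx), fun hi => (hiso x hi).1 hx⟩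
  have bQ := hsmall _ hQ fun x hx => ⟨Or.inr (hQs hx), fun hi => (hiso x hi).2 hx⟩
  obtain ⟨A, hA⟩ := bK i
  obtain ⟨A', hA'⟩ := bK (i + 1)
  obtain ⟨B, hB⟩ := bQ i
  obtain ⟨B', hB'⟩ := bQ (i - 1)
  refine ⟨A + A' + B + B', fun a => ?_⟩
  have hP := Intersect.isInvertible_N hL a
  have k₁ := h_ineq k (CohFinite.shortExact_tmap hP h₁) (isCoh_twN L hL hK a)
    (isCoh_twN L hL (CohFinite.isCoh_of_iso e₁.symm hF) a) (isCoh_twN L hL hI a) i
  have k₂ := h_ineq k (CohFinite.shortExact_tmap hP h₂) (isCoh_twN L hL (CohFinite.isCoh_of_iso e₃ hI) a)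
    (isCoh_twN L hL (CohFinite.isCoh_of_iso e₂.symm hG) a) (isCoh_twN L hL hQ a) i
  have q₁ := hN_congr k L e₁ i a
  have q₂ := hN_congr k L e₂ i a
  have q₃ := hN_congr k L e₃ i a
  have a1 := hA a; have a2 := hA' a; have a3 := hB a; have a4 := hB' a
  simp only [hN] at *
  rw [add_mul, add_mul, add_mul]
  constructor <;> omega

/-- The module multiplied by an invertible one. -/
theorem hN_tensor {F : X.Modules} (i : ℕ) {P P' : X.Modules} {a a' : Fin s → ℕ}
    (h : PicF.cl P * PicF.cl (Intersect.N L a) = PicF.cl P' * PicF.cl (Intersect.N L a')) :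
    hN k L (CohB1.tensorMod F P) i a = hN k L (CohB1.tensorMod F P') i a' := by
  refine Nakai.h_congr k ?_ i
  simp only [Nakai.cl_tensor, mul_assoc, h]

include hL in
/-- Multiplication by a section through the maximal points of the support. -/
theorem compare_mul {F M : X.Modules} (hF : Coh.IsCoh F) (hM : PicF.IsInvertible M)
    (t : Coh.structureModule X ⟶ M) {Z : Set X} (hZ : Z ⊆ CohB1.support F)
    (hgen : ∀ x ∈ CohB1.support F, ∃ w ∈ Z, w ⤳ x) (hZt : Z ⊆ CohB1.genLocus M t) {d : ℕ}
    (hd : NoCh k F (d + 1)) (hb : ∀ P : X.Modules, Coh.IsCoh P → NoCh k P d → Bdd k L P d) (i : ℕ) :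
    ∃ C : ℕ, ∀ a : Fin s → ℕ, hN k L F i a ≤ hN k L (CohB1.tensorMod F M) i a + C * poly d (size a) ∧
      hN k L (CohB1.tensorMod F M) i a ≤ hN k L F i a + C * poly d (size a) := by
  haveI := CurveRR.isNoetherian_of_proper k X
  refine compare k L hL hF (CohFinite.isCoh_tensor hF hM) (CohBound.mulSec F t) (fun P hP hsupp => hb P hP ?_) i
  refine CohBound.noChain_succ (hη k) (U := CohB1.genLocus M t) (fun x hx => ?_)
    (fun x hx hxU => (hsupp x hx).2 (CohBound.isIso_stalk_mulSec F t hxU)) hZ hZt hgen hd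
  rcases (hsupp x hx).1 with h | h
  · exact h
  · exact (CohBound.support_tensor_invertible hF hM).le h

/-- Moving one step at a time. -/
theorem path {D c : ℕ} {f : (Fin s → ℕ) → ℕ}
    (h : ∀ a j, f (a + Pi.single j 1) ≤ f a + c * poly D (size a + 1) ∧
      f a ≤ f (a + Pi.single j 1) + c * poly D (size a + 1)) (M : ℕ) :
    ∀ (N : ℕ) (a b : Fin s → ℕ), (∑ j, Nat.dist (a j) (b j)) = N → size a ≤ M → size b ≤ M →
      f a ≤ f b + N * (c * poly D M)
  | 0, a, b, hN, _, _ => by
    have : a = b := funext fun j => Nat.eq_of_dist_eq_zero (Finset.sum_eq_zero_iff.1 hN j (Finset.mem_univ j))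
    simp [this]
  | N + 1, a, b, hN, ha, hb => by
    obtain ⟨j, hj⟩ : ∃ j, Nat.dist (a j) (b j) ≠ 0 := by
      by_contra! h0
      simp [h0] at hN
    rw [Nat.succ_mul]
    rcases lt_or_ge (b j) (a j) with hlt | hge
    · have hlt' : 1 ≤ a j := by omega
      let a' := Function.update a j (a j - 1)
      have hadd : a' + Pi.single j 1 = a := funext fun l => by
        rcases eq_or_ne l j with rfl | hl
        · simp [a']; omega
        · simp [a', hl]
      have hs : size a' + 1 = size a := by
        rw [← hadd]; simp [size, Finset.sum_add_distrib]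
      have hdist : (∑ l, Nat.dist (a' l) (b l)) = N := by
        have h2 : ∑ l, Nat.dist (a l) (b l) = (∑ l, Nat.dist (a' l) (b l)) + 1 := by
          rw [← Finset.add_sum_erase _ _ (Finset.mem_univ j),
            ← Finset.add_sum_erase _ (fun l => Nat.dist (a' l) (b l)) (Finset.mem_univ j),
            Finset.sum_congr rfl (fun l hl => show Nat.dist (a' l) (b l) = Nat.dist (a l) (b l) by
              simp [a', Finset.ne_of_mem_erase hl])]
          simp only [a', Function.update_self, Nat.dist]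
          omega
        omega
      have h1 := (h a' j).1
      rw [hadd] at h1
      have h2 := path h M N a' b hdist (by omega) hb
      have h3 : c * poly D (size a' + 1) ≤ c * poly D M := Nat.mul_le_mul_left _ (poly_mono D (by omega))
      omega
    · have hlt' : a j + 1 ≤ b j := by
        rcases eq_or_lt_of_le hge with he | hl
        · exact absurd (by rw [he, Nat.dist_self]) hj
        · exact hl
      let b' := Function.update b j (b j - 1)
      have hadd : b' + Pi.single j 1 = b := funext fun l => by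
        rcases eq_or_ne l j with rfl | hl
        · simp [b']; omega
        · simp [b', hl]
      have hs : size b' + 1 = size b := by
        rw [← hadd]; simp [size, Finset.sum_add_distrib]
      have hdist : (∑ l, Nat.dist (a l) (b' l)) = N := by
        have h2 : ∑ l, Nat.dist (a l) (b l) = (∑ l, Nat.dist (a l) (b' l)) + 1 := by
          rw [← Finset.add_sum_erase _ _ (Finset.mem_univ j),
            ← Finset.add_sum_erase _ (fun l => Nat.dist (a l) (b' l)) (Finset.mem_univ j),
            Finset.sum_congr rfl (fun l hl => show Nat.dist (a l) (b' l) = Nat.dist (a l) (b l) by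
              simp [b', Finset.ne_of_mem_erase hl])]
          simp only [b', Function.update_self, Nat.dist]
          omega
        omega
      have h1 := (h b' j).2
      rw [hadd] at h1
      have h2 := path h M N a b' hdist ha (by omega)
      have h3 : c * poly D (size b' + 1) ≤ c * poly D M := Nat.mul_le_mul_left _ (poly_mono D (by omega))
      omega

include hL in
/-- The variation of the cohomology along the exponents, given the bound one dimension lower. -/
theorem lip_of_bdd {L₀ : X.Modules} (hL₀ : CohB1.IsAmple L₀) {F : X.Modules} (hF : Coh.IsCoh F) {d : ℕ}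
    (hd : NoCh k F (d + 1)) (hb : ∀ P : X.Modules, Coh.IsCoh P → NoCh k P d → Bdd k L P d) (i : ℕ) :
    ∃ C : ℕ, ∀ (M : ℕ) (a b : Fin s → ℕ), size a ≤ M → size b ≤ M →
      hN k L F i a ≤ hN k L F i b + (∑ j, Nat.dist (a j) (b j)) * (C * poly d M) := by
  haveI := CurveRR.isNoetherian_of_proper k X
  obtain ⟨Z, hZf, hZ, hgen⟩ := CohBound.exists_max_points (Groth.Agent.QC.isClosed_support hF.2)
  have step : ∀ j : Fin s, ∃ c : ℕ, ∀ a, hN k L F i (a + Pi.single j 1) ≤ hN k L F i a + c * poly d (size a + 1) ∧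
      hN k L F i a ≤ hN k L F i (a + Pi.single j 1) + c * poly d (size a + 1) := fun j => by
    obtain ⟨m, σ, k₀, hσ, hk⟩ := NegTwist.exists_section_gen_finite hL₀ (hL j) hZf
    obtain ⟨t, ht⟩ := hk (k₀ + 1) (Nat.le_succ _)
    let Q := CohB1.tensorPow (CohB1.tensorPow L₀ (m + 1)) (k₀ + 1)
    have hQ : PicF.IsInvertible Q :=
      TMul.isInvertible_tensorPow (TMul.isInvertible_tensorPow hL₀.1 (m + 1)) (k₀ + 1)
    have hs := TMul.genLocus_powHom (TMul.isInvertible_tensorPow hL₀.1 (m + 1)) σ k₀
    obtain ⟨C₁, h₁⟩ := compare_mul k L hL hF (TMul.isInvertible_tensorMod (hL j) hQ) t hZ hgen ht hd hb i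
    obtain ⟨C₂, h₂⟩ := compare_mul k L hL hF hQ (SecTwist.powHom σ (k₀ + 1)) hZ hgen
      (fun x hx => hs.ge (hσ hx)) hd hb i
    refine ⟨C₁ + C₂, fun a => ?_⟩
    have e : hN k L (CohB1.tensorMod F Q) i (a + Pi.single j 1) =
        hN k L (CohB1.tensorMod F (CohB1.tensorMod (L j) Q)) i a := by
      refine hN_tensor k L i ?_
      simp only [Nakai.cl_tensor, cl_N_add, cl_N_single, pow_one]
      ac_rfl
    have hs1 : size (a + Pi.single j 1) = size a + 1 := by simp [size, Finset.sum_add_distrib]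
    have i₁ := h₁ a
    have i₂ := h₂ (a + Pi.single j 1)
    rw [hs1, e] at i₂
    have hp : C₁ * poly d (size a) ≤ C₁ * poly d (size a + 1) :=
      Nat.mul_le_mul_left _ (poly_mono d (Nat.le_succ _))
    rw [add_mul]
    constructor <;> omega
  choose c hc using step
  refine ⟨∑ j, c j, fun M a b ha hb' => path (fun a j => ?_) M _ a b rfl ha hb'⟩
  have hcj : c j * poly d (size a + 1) ≤ (∑ j, c j) * poly d (size a + 1) :=
    Nat.mul_le_mul_right _ (Finset.single_le_sum (f := c) (fun _ _ => Nat.zero_le _) (Finset.mem_univ j))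
  have := hc j a
  constructor <;> omega

include hL in
/-- The polynomial bound. -/
theorem bdd_all {L₀ : X.Modules} (hL₀ : CohB1.IsAmple L₀) :
    ∀ (d : ℕ) (F : X.Modules), Coh.IsCoh F → NoCh k F d → Bdd k L F d
  | 0, F, hF, h => fun i => ⟨0, fun a => by rw [hN, h_zero_of_noCh_zero k hF h]; exact Nat.zero_le _⟩
  | d + 1, F, hF, h => fun i => by
    obtain ⟨C, hC⟩ := lip_of_bdd k L hL hL₀ hF h (bdd_all hL₀ d) i
    refine ⟨hN k L F i 0 + C, fun a => ?_⟩
    have h1 := hC (size a) a 0 le_rfl (by simp [size])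
    have h2 : (∑ j, Nat.dist (a j) ((0 : Fin s → ℕ) j)) = size a := by simp [size, Nat.dist]
    rw [h2] at h1
    have h3 : size a * poly d (size a) ≤ poly (d + 1) (size a) := by
      rcases Nat.eq_zero_or_pos d with rfl | hd
      · simp [poly]
      · simp only [poly, Nat.add_sub_cancel]
        calc size a * (d * (size a + 1) ^ (d - 1)) = d * ((size a + 1) ^ (d - 1) * size a) := by ring
          _ ≤ (d + 1) * ((size a + 1) ^ (d - 1) * (size a + 1)) :=
            Nat.mul_le_mul (Nat.le_succ _) (Nat.mul_le_mul_left _ (Nat.le_succ _))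
          _ = _ := by rw [← pow_succ, Nat.sub_add_cancel hd]
    have h4 : hN k L F i 0 ≤ hN k L F i 0 * poly (d + 1) (size a) :=
      Nat.le_mul_of_pos_right _ (Nat.mul_pos (Nat.succ_pos _) (pow_pos (Nat.succ_pos _) _))
    have h5 : size a * (C * poly d (size a)) ≤ C * poly (d + 1) (size a) := by
      rw [mul_left_comm]; exact Nat.mul_le_mul_left _ h3
    rw [add_mul]
    omega

include hL in
/-- The variation of the cohomology along the exponents. -/
theorem lip {L₀ : X.Modules} (hL₀ : CohB1.IsAmple L₀) {n : ℕ}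
    (hn : topologicalKrullDim X ≤ (n : WithBot ℕ∞)) {F : X.Modules} (hF : Coh.IsCoh F) (i : ℕ) :
    ∃ C : ℕ, ∀ (M : ℕ) (a b : Fin s → ℕ), size a ≤ M → size b ≤ M →
      hN k L F i a ≤ hN k L F i b + (∑ j, Nat.dist (a j) (b j)) * (C * poly n M) :=
  lip_of_bdd k L hL hL₀ hF (noCh_top k hn F) (bdd_all k L hL hL₀ n) i

end Groth.Agent.AsympCoh
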