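import Groth.Agent.AsympCoh.Integral
import Groth.Agent.Intersect.Hyper
import Groth.Agent.DCohShriek.DualModuleField
import Groth.Agent.W7Hull.InvDual

/-!
# A bound for families of monomial twists with integer exponents
-/

set_option autoImplicit false
set_option linter.style.haveILetI false
set_option linter.unusedSectionVars false
set_option backward.isDefEq.respectTransparency false
set_option backward.isDefEq.respectTransparency.types false

universe u

open CategoryTheory Limits AlgebraicGeometry Opposite TopologicalSpace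

noncomputable section

namespace Groth.Agent.AsympCoh

attribute [local instance] Nakai.clMonoid

variable {X : Scheme.{u}} {r : ℕ}

theorem cl_family {L M : Fin r → X.Modules}
    (hLM : ∀ j, PicF.cl (L j) * PicF.cl (M j) = 1) (F : (Fin r → ℤ) → X.Modules)
    (hF0 : PicF.cl (F 0) = 1) (hF : ∀ a j, PicF.cl (F (a + Pi.single j 1)) = PicF.cl (F a) * PicF.cl (L j))
    (a : Fin r → ℤ) : PicF.cl (F a) = PicF.cl (Intersect.N (Fin.append L M) (expo a)) := by
  let u : ∀ j, (PicF.Cl X)ˣ := fun j => ⟨PicF.cl (L j), PicF.cl (M j), hLM j, by rw [mul_comm, hLM j]⟩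
  have step : ∀ (b : Fin r → ℤ) (j : Fin r) (n : ℤ),
      PicF.cl (F (b + Pi.single j n)) = PicF.cl (F b) * ((u j ^ n : (PicF.Cl X)ˣ) : PicF.Cl X) := by
    intro b j n
    induction n using Int.induction_on with
    | zero => simp
    | succ i ih =>
      rw [show b + Pi.single j ((i : ℤ) + 1) = b + Pi.single j (i : ℤ) + Pi.single j 1 by
        rw [Pi.single_add, add_assoc], hF, ih, zpow_add_one, Units.val_mul, mul_assoc]
    | pred i ih =>
      have h := hF (b + Pi.single j (-(i : ℤ) - 1)) j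
      rw [show b + Pi.single j (-(i : ℤ) - 1) + Pi.single j 1 = b + Pi.single j (-(i : ℤ)) by
        rw [add_assoc, ← Pi.single_add, sub_add_cancel]] at h
      rw [ih] at h
      rw [zpow_sub_one, Units.val_mul, ← mul_assoc, h, mul_assoc]
      change _ = _ * (PicF.cl (L j) * PicF.cl (M j))
      rw [hLM, mul_one]
  have hall : ∀ s : Finset (Fin r), PicF.cl (F (∑ j ∈ s, Pi.single j (a j))) =
      ∏ j ∈ s, ((u j ^ a j : (PicF.Cl X)ˣ) : PicF.Cl X) := by
    intro s
    induction s using Finset.cons_induction with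
    | empty => simpa using hF0
    | cons j s hj ih => rw [Finset.sum_cons, Finset.prod_cons, add_comm, step, ih, mul_comm]
  have h := hall Finset.univ
  rw [Finset.univ_sum_single] at h
  rw [h, cl_N, Fin.prod_univ_add, ← Finset.prod_mul_distrib]
  refine Finset.prod_congr rfl fun j _ => ?_
  simp only [expo, Fin.append_left, Fin.append_right]
  rcases le_total 0 (a j) with hs | hs
  · obtain ⟨m, hm⟩ := Int.eq_ofNat_of_zero_le hs
    rw [hm, Int.toNat_natCast, show (-(m : ℤ)).toNat = 0 by omega, pow_zero, mul_one, zpow_natCast, Units.val_pow_eq_pow_val]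
  · obtain ⟨m, hm⟩ : ∃ m : ℕ, a j = -(m : ℤ) := ⟨(-(a j)).toNat, by omega⟩
    rw [hm, neg_neg, Int.toNat_natCast, show (-(m : ℤ)).toNat = 0 by omega, pow_zero, one_mul, zpow_neg,
      zpow_natCast, ← inv_pow, Units.val_pow_eq_pow_val]
    rfl

theorem exists_family_bound (k : Type u) [Field k] [X.Over (Spec (CommRingCat.of k))]
    [IsProper (X ↘ Spec (CommRingCat.of k))] {L₀ : X.Modules} (hL₀ : CohB1.IsAmple L₀) {d : ℕ}
    (hd : topologicalKrullDim X ≤ (d : WithBot ℕ∞)) {L : Fin r → X.Modules} (hL : ∀ j, PicF.IsInvertible (L j))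
    (F : (Fin r → ℤ) → X.Modules) (hF0 : Nonempty (F 0 ≅ Coh.structureModule X))
    (hF : ∀ (a : Fin r → ℤ) (j : Fin r), Nonempty (F (a + Pi.single j 1) ≅ CohB1.tensorMod (F a) (L j))) :
    ∃ C : ℝ, 0 < C ∧ ∀ (i : ℕ) (a : Fin r → ℤ),
      (Module.finrank k (Coh.HH X (F a) i) : ℝ) ≤ C * (1 + (∑ j, |(a j : ℝ)|) ^ d) := by
  haveI := CurveRR.isNoetherian_of_proper k X
  choose M hM hLM using fun j => W7Hull.exists_tensor_inverse (hL j)
  have hcl : ∀ a, PicF.cl (F a) = PicF.cl (Intersect.N (Fin.append L M) (expo a)) := cl_family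
    (fun j => Nakai.cl_inv (hLM j)) F ((PicGrp.cl_eq_cl_iff _ _).2 hF0)
    (fun a j => ((PicGrp.cl_eq_cl_iff _ _).2 (hF a j)).trans (Nakai.cl_tensor _ _))
  have hO : Coh.IsCoh (Coh.structureModule X) := Nakai.isCoh_one k
  have hinv := isInvertible_append hL hM
  choose C hC using bdd_all k (Fin.append L M) hinv hL₀ (d + 1) _ hO (noCh_top k hd _)
  let T := ∑ i ∈ Finset.range (d + 1), C i
  refine ⟨(T * (d + 1) * 2 ^ d : ℕ) + 1, by positivity, fun i a => ?_⟩
  have hS : (0 : ℝ) ≤ ∑ j, |(a j : ℝ)| := Finset.sum_nonneg fun j _ => abs_nonneg _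
  have hN : CurveRR.h k (F a) i = hN k (Fin.append L M) (Coh.structureModule X) i (expo a) :=
    Nakai.h_congr k (by rw [Nakai.cl_tensor, show PicF.cl (Coh.structureModule X) = 1 from rfl, one_mul, hcl]) i
  by_cases hi : d < i
  · have hz : CurveRR.h k (F a) i = 0 := by
      rw [hN]
      exact CurveRR.h_eq_zero (DCohShriek.subsingleton_hh_of_dim_le k d hd _
        (CohFinite.isCoh_tensor hO (Intersect.isInvertible_N hinv _)).1 i hi)
    rw [CurveRR.h] at hz
    rw [hz, Nat.cast_zero]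
    positivity
  have h1 : CurveRR.h k (F a) i ≤ T * ((d + 1) * (size (expo a) + 1) ^ d) := by
    rw [hN]
    refine (hC i (expo a)).trans ?_
    rw [poly, Nat.add_sub_cancel]
    exact Nat.mul_le_mul_right _ (Finset.single_le_sum (fun _ _ => Nat.zero_le _) (Finset.mem_range.2 (by omega)))
  have hsz : (size (expo a) : ℝ) = ∑ j, |(a j : ℝ)| := by
    simp only [size, expo, Fin.sum_univ_add, Fin.append_left, Fin.append_right]
    push_cast
    rw [← Finset.sum_add_distrib]
    refine Finset.sum_congr rfl fun j _ => ?_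
    rw [← Nat.cast_add, ← Int.cast_abs, ← Int.natCast_natAbs, Int.cast_natCast]
    congr 1
    omega
  have h2 : (Module.finrank k (Coh.HH X (F a) i) : ℝ) ≤ (T : ℝ) * ((d + 1) * ((∑ j, |(a j : ℝ)|) + 1) ^ d) := by
    rw [← hsz]
    exact_mod_cast h1
  refine h2.trans ?_
  have h3 : ((∑ j, |(a j : ℝ)|) + 1) ^ d ≤ 2 ^ d * (1 + (∑ j, |(a j : ℝ)|) ^ d) := by
    refine (add_pow_le hS zero_le_one d).trans ?_
    rw [one_pow, add_comm]
    exact mul_le_mul_of_nonneg_right (pow_le_pow_right₀ one_le_two (Nat.sub_le _ _)) (by positivity)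
  push_cast
  have h4 : (T : ℝ) * (d + 1) * (((∑ j, |(a j : ℝ)|) + 1) ^ d) ≤
      (T : ℝ) * (d + 1) * (2 ^ d * (1 + (∑ j, |(a j : ℝ)|) ^ d)) := mul_le_mul_of_nonneg_left h3 (by positivity)
  have h5 : (0 : ℝ) ≤ 1 + (∑ j, |(a j : ℝ)|) ^ d := by positivity
  nlinarith

end Groth.Agent.AsympCoh
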