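import Groth.Agent.AsympCoh.Apps
import Groth.Agent.TMul.Pullback
import Groth.Agent.KFlat.PullTensor

/-!
The cohomology of twists by monomials in pulled back modules grows at most like the dimension of the image.
-/

set_option autoImplicit false
set_option linter.unusedSectionVars false
set_option linter.style.haveILetI false
set_option backward.isDefEq.respectTransparency false
set_option backward.isDefEq.respectTransparency.types false
set_option maxHeartbeats 1000000

universe u

open CategoryTheory CategoryTheory.Limits AlgebraicGeometry TopologicalSpace Filter Topology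

noncomputable section

namespace Groth.Agent.AsympCoh

attribute [local instance] Nakai.clMonoid

variable {X Y : Scheme.{u}}

/-- The image of the support has no chain of `d + 1` points. -/
def NoChIm (f : Y ⟶ X) (F : Y.Modules) (d : ℕ) : Prop :=
  ∀ c : Fin (d + 1) → X, (∀ i, c i ∈ f.base '' CohB1.support F) →
    (∀ i j, i < j → c j ⤳ c i ∧ c i ≠ c j) → False

theorem noChIm_succ (f : Y ⟶ X) {F G : Y.Modules} {d : ℕ} {Z : Set X}
    (hGF : CohB1.support G ⊆ CohB1.support F) {U : X.Opens} (hU : ∀ y ∈ CohB1.support G, f.base y ∉ U)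
    (hZ : Z ⊆ f.base '' CohB1.support F) (hZU : Z ⊆ U)
    (hgen : ∀ x ∈ f.base '' CohB1.support F, ∃ w ∈ Z, w ⤳ x) (hF : NoChIm f F (d + 1)) : NoChIm f G d := by
  intro c hc hcc
  obtain ⟨w, hwZ, hw⟩ := hgen _ (Set.image_mono hGF (hc (Fin.last d)))
  have hne : ∀ i, c i ≠ w := fun i e => by
    obtain ⟨y, hy, hyc⟩ := hc i
    exact hU y hy (by rw [hyc, e]; exact hZU hwZ)
  have hspec : ∀ i, w ⤳ c i := fun i => by
    rcases (Fin.le_last i).lt_or_eq with h | h
    · exact hw.trans (hcc _ _ h).1
    · rw [h]; exact hw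
  refine hF (Fin.snoc c w) (fun i => ?_) fun i j hij => ?_
  · refine Fin.lastCases ?_ (fun i => ?_) i
    · rw [Fin.snoc_last]; exact hZ hwZ
    · rw [Fin.snoc_castSucc]; exact Set.image_mono hGF (hc i)
  · revert hij
    refine Fin.lastCases ?_ (fun i => ?_) i
    · intro hij; exact absurd hij (not_lt.2 (Fin.le_last _))
    · refine Fin.lastCases ?_ (fun j => ?_) j
      · intro _; rw [Fin.snoc_castSucc, Fin.snoc_last]; exact ⟨hspec i, hne i⟩
      · intro hij; rw [Fin.snoc_castSucc, Fin.snoc_castSucc]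
        exact hcc i j (Fin.castSucc_lt_castSucc_iff.1 hij)

theorem cl_pull_tensor (f : Y ⟶ X) (M N : X.Modules) :
    PicF.cl ((Scheme.Modules.pullback f).obj (CohB1.tensorMod M N)) =
      PicF.cl ((Scheme.Modules.pullback f).obj M) * PicF.cl ((Scheme.Modules.pullback f).obj N) := by
  rw [← Nakai.cl_tensor]
  exact (PicGrp.cl_eq_cl_iff _ _).2 ⟨(KFlat.pullTensorIso f M N).symm⟩

variable (k : Type u) [Field k] [Y.Over (Spec (CommRingCat.of k))] [IsProper (Y ↘ Spec (CommRingCat.of k))]
  (f : Y ⟶ X) {s : ℕ}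

/-- Multiplication by a pulled back section through the maximal points of the image of the support. -/
theorem compare_pull {L : Fin s → Y.Modules} (hL : ∀ j, PicF.IsInvertible (L j)) {F : Y.Modules} (hF : Coh.IsCoh F)
    {M : X.Modules} (hM : PicF.IsInvertible M) (t : Coh.structureModule X ⟶ M) {Z : Set X}
    (hZ : Z ⊆ f.base '' CohB1.support F) (hgen : ∀ x ∈ f.base '' CohB1.support F, ∃ w ∈ Z, w ⤳ x)
    (hZt : Z ⊆ CohB1.genLocus M t) {d : ℕ} (hd : NoChIm f F (d + 1))
    (hb : ∀ P : Y.Modules, Coh.IsCoh P → NoChIm f P d → Bdd k L P d) (i : ℕ) :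
    ∃ C : ℕ, ∀ a : Fin s → ℕ,
      hN k L F i a ≤ hN k L (CohB1.tensorMod F ((Scheme.Modules.pullback f).obj M)) i a + C * poly d (size a) ∧
      hN k L (CohB1.tensorMod F ((Scheme.Modules.pullback f).obj M)) i a ≤ hN k L F i a + C * poly d (size a) := by
  haveI := CurveRR.isNoetherian_of_proper k Y
  have hM' := PicLoc.isInvertible_pullback f hM
  let t' : Coh.structureModule Y ⟶ (Scheme.Modules.pullback f).obj M :=
    (PicLoc.pullbackStructureIso f).symm.hom ≫ (Scheme.Modules.pullback f).map t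
  have hgl : CohB1.genLocus _ t' = f ⁻¹ᵁ CohB1.genLocus M t :=
    TMul.genLocus_pullback f hM t (PicLoc.pullbackStructureIso f).symm
  refine compare k L hL hF (CohFinite.isCoh_tensor hF hM') (CohBound.mulSec F t') (fun P hP hsupp => hb P hP ?_) i
  refine noChIm_succ f (U := CohB1.genLocus M t) (fun y hy => ?_)
    (fun y hy hyU => (hsupp y hy).2 (CohBound.isIso_stalk_mulSec F t' (by rw [hgl]; exact hyU))) hZ hZt hgen hd
  rcases (hsupp y hy).1 with h | h
  · exact h
  · exact (CohBound.support_tensor_invertible hF hM').le h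

variable [IsProper f] [IsNoetherian X] {L₀ : X.Modules} (hL₀ : CohB1.IsAmple L₀) {M : Fin s → X.Modules}
  (hM : ∀ j, PicF.IsInvertible (M j))

include hL₀ hM in
/-- The variation along the exponents, given the bound one dimension lower. -/
theorem lip_pull {F : Y.Modules} (hF : Coh.IsCoh F) {d : ℕ} (hd : NoChIm f F (d + 1))
    (hb : ∀ P : Y.Modules, Coh.IsCoh P → NoChIm f P d →
      Bdd k (fun j => (Scheme.Modules.pullback f).obj (M j)) P d) (i : ℕ) :
    ∃ C : ℕ, ∀ (S : ℕ) (a b : Fin s → ℕ), size a ≤ S → size b ≤ S →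
      hN k (fun j => (Scheme.Modules.pullback f).obj (M j)) F i a ≤
        hN k (fun j => (Scheme.Modules.pullback f).obj (M j)) F i b + (∑ j, Nat.dist (a j) (b j)) * (C * poly d S) := by
  haveI := CurveRR.isNoetherian_of_proper k Y
  let L := fun j => (Scheme.Modules.pullback f).obj (M j)
  have hL : ∀ j, PicF.IsInvertible (L j) := fun j => PicLoc.isInvertible_pullback f (hM j)
  obtain ⟨Z, hZf, hZ, hgen⟩ := CohBound.exists_max_points
    (f.isClosedMap _ (Groth.Agent.QC.isClosed_support hF.2))
  have step : ∀ j : Fin s, ∃ c : ℕ, ∀ a, hN k L F i (a + Pi.single j 1) ≤ hN k L F i a + c * poly d (size a + 1) ∧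
      hN k L F i a ≤ hN k L F i (a + Pi.single j 1) + c * poly d (size a + 1) := fun j => by
    obtain ⟨m, σ, k₀, hσ, hk⟩ := NegTwist.exists_section_gen_finite hL₀ (hM j) hZf
    obtain ⟨t, ht⟩ := hk (k₀ + 1) (Nat.le_succ _)
    let Q := CohB1.tensorPow (CohB1.tensorPow L₀ (m + 1)) (k₀ + 1)
    have hQ : PicF.IsInvertible Q :=
      TMul.isInvertible_tensorPow (TMul.isInvertible_tensorPow hL₀.1 (m + 1)) (k₀ + 1)
    have hs := TMul.genLocus_powHom (TMul.isInvertible_tensorPow hL₀.1 (m + 1)) σ k₀
    obtain ⟨C₁, h₁⟩ := compare_pull k f hL hF (TMul.isInvertible_tensorMod (hM j) hQ) t hZ hgen ht hd hb i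
    obtain ⟨C₂, h₂⟩ := compare_pull k f hL hF hQ (SecTwist.powHom σ (k₀ + 1)) hZ hgen
      (fun x hx => hs.ge (hσ hx)) hd hb i
    refine ⟨C₁ + C₂, fun a => ?_⟩
    have e : hN k L (CohB1.tensorMod F ((Scheme.Modules.pullback f).obj Q)) i (a + Pi.single j 1) =
        hN k L (CohB1.tensorMod F ((Scheme.Modules.pullback f).obj (CohB1.tensorMod (M j) Q))) i a := by
      refine hN_tensor k L i ?_
      simp only [cl_pull_tensor, cl_N_add, cl_N_single, pow_one, L]
      ac_rfl
    have hs1 : size (a + Pi.single j 1) = size a + 1 := by simp [size, Finset.sum_add_distrib]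
    have i₁ := h₁ a
    have i₂ := h₂ (a + Pi.single j 1)
    rw [hs1, e] at i₂
    have hp : C₁ * poly d (size a) ≤ C₁ * poly d (size a + 1) :=
      Nat.mul_le_mul_left _ (poly_mono d (Nat.le_succ _))
    rw [add_mul]
    constructor <;> omega
  choose c hc using step
  refine ⟨∑ j, c j, fun S a b ha hb' => path (fun a j => ?_) S _ a b rfl ha hb'⟩
  have hcj : c j * poly d (size a + 1) ≤ (∑ j, c j) * poly d (size a + 1) :=
    Nat.mul_le_mul_right _ (Finset.single_le_sum (f := c) (fun _ _ => Nat.zero_le _) (Finset.mem_univ j))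
  have := hc j a
  simp only [L] at *
  constructor <;> omega

include hL₀ hM in
/-- The polynomial bound of degree the dimension of the image. -/
theorem bdd_pull : ∀ (d : ℕ) (F : Y.Modules), Coh.IsCoh F → NoChIm f F d →
    Bdd k (fun j => (Scheme.Modules.pullback f).obj (M j)) F d
  | 0, F, hF, h => fun i => ⟨0, fun a => by
      have h0 : NoCh k F 0 := fun c hc _ => h (fun i => f.base (c i)) (fun i => ⟨c i, (hc i).1, rfl⟩)
        (fun i j hij => absurd hij (by omega))
      rw [hN, h_zero_of_noCh_zero k hF h0]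
      exact Nat.zero_le _⟩
  | d + 1, F, hF, h => fun i => by
    obtain ⟨C, hC⟩ := lip_pull k f hL₀ hM hF h (bdd_pull d) i
    let L := fun j => (Scheme.Modules.pullback f).obj (M j)
    refine ⟨hN k L F i 0 + C, fun a => ?_⟩
    have h1 := hC (size a) a 0 le_rfl (by simp [size])
    have h2 : (∑ j, Nat.dist (a j) ((0 : Fin s → ℕ) j)) = size a := by simp [size, Nat.dist]
    rw [h2] at h1
    have h3 : size a * poly d (size a) ≤ poly (d + 1) (size a) := by
      rcases Nat.eq_zero_or_pos d with rfl | hd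
      · simp [poly]
      · simp only [poly, Nat.add_sub_cancel]
        calc size a * (d * (size a + 1) ^ (d - 1)) = d * ((size a + 1) ^ (d - 1) * size a) := by ring
          _ ≤ (d + 1) * ((size a + 1) ^ (d - 1) * (size a + 1)) :=
            Nat.mul_le_mul (Nat.le_succ _) (Nat.mul_le_mul_left _ (Nat.le_succ _))
          _ = _ := by rw [← pow_succ, Nat.sub_add_cancel hd]
    have h4 : hN k L F i 0 ≤ hN k L F i 0 * poly (d + 1) (size a) :=
      Nat.le_mul_of_pos_right _ (Nat.mul_pos (Nat.succ_pos _) (pow_pos (Nat.succ_pos _) _))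
    have h5 : size a * (C * poly d (size a)) ≤ C * poly (d + 1) (size a) := by
      rw [mul_left_comm]; exact Nat.mul_le_mul_left _ h3
    rw [add_mul]
    simp only [L] at *
    omega

include hL₀ in
/-- The asymptotic cohomology of a module pulled back from a smaller dimension vanishes. -/
theorem hhat_pull_eq_zero {n e : ℕ} (hn : topologicalKrullDim X ≤ (n : WithBot ℕ∞)) (hne : n < e) {N : X.Modules}
    (hN' : PicF.IsInvertible N) (i : ℕ) :
    W4c5asymptcohfn.hhat k Y e i ((Scheme.Modules.pullback f).obj N) = 0 := by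
  haveI := CurveRR.isNoetherian_of_proper k Y
  have hM : ∀ j, PicF.IsInvertible ((fun _ : Fin 1 => N) j) := fun _ => hN'
  let L := fun j : Fin 1 => (Scheme.Modules.pullback f).obj ((fun _ : Fin 1 => N) j)
  have hF : Coh.IsCoh (Coh.structureModule Y) := Nakai.isCoh_one k
  obtain ⟨C, hC⟩ := bdd_pull k f hL₀ hM (n + 1) _ hF
    (fun c _ hcc => absurd ((Intersect.le_dim_of_chain c hcc).trans hn) (by norm_cast; omega)) i
  rw [hhat_eq k e i L ![1] (P := (Scheme.Modules.pullback f).obj N) (by simp [cl_N, L])]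
  refine Tendsto.limsup_eq (tendsto_of_abs_le (C := C * e.factorial) (c := 1) (n' := e) fun m => ?_)
  rcases Nat.eq_zero_or_pos m with rfl | hm
  · simp [zero_pow (show e ≠ 0 by omega)]; positivity
  rw [abs_of_nonneg (vseq_nonneg k e i _ _ _ m), vseq, div_mul_cancel₀ _ (pow_ne_zero _ (by exact_mod_cast hm.ne'))]
  have h1 : hN k L (Coh.structureModule Y) i (m • ![1]) ≤ C * poly e (m * 1 + 1) := by
    refine (hC _).trans (Nat.mul_le_mul_left _ ?_)
    simp only [poly, Nat.add_sub_cancel, size_smul]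
    refine Nat.mul_le_mul hne (le_trans (Nat.pow_le_pow_left (by simp [size]) n) (Nat.pow_le_pow_right (by omega) (by omega)))
  calc _ ≤ ((C * poly e (m * 1 + 1) : ℕ) : ℝ) * (e.factorial : ℝ) :=
        mul_le_mul_of_nonneg_right (by exact_mod_cast h1) (Nat.cast_nonneg _)
    _ = _ := by push_cast; ring

end Groth.Agent.AsympCoh
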