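import Groth.Agent.AsympCoh.Rank
import Groth.Agent.Intersect.Deg
import Groth.Agent.W7Hull.AmpleSurj
import Groth.Agent.CohFinite.Proper
import Groth.Agent.CohFinite.PushLinear
import Groth.Agent.WeilLib.Trdeg
import Groth.Agent.AsympCoh.Pull

/-!
Asymptotic cohomology along a generically finite morphism.
-/

set_option autoImplicit false
set_option linter.unusedSectionVars false
set_option linter.style.haveILetI false
set_option backward.isDefEq.respectTransparency false
set_option backward.isDefEq.respectTransparency.types false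
set_option maxHeartbeats 1000000

universe u

open CategoryTheory CategoryTheory.Limits AlgebraicGeometry TopologicalSpace Filter Topology
open Groth.Agent.SiteCoh

noncomputable section

namespace Groth.Agent.AsympCoh

attribute [local instance] Nakai.clMonoid

variable {X Y : Scheme.{u}}

/-- Affine opens on which an invertible module is trivial. -/
theorem exists_triv_affine {L : X.Modules} (hL : PicF.IsInvertible L) (x : X) :
    ∃ V : X.Opens, IsAffineOpen V ∧ x ∈ V ∧ Nonempty (L.restrict V.ι ≅ Coh.structureModule (V : Scheme.{u})) := by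
  obtain ⟨U, hxU, ⟨e⟩⟩ := hL x
  obtain ⟨V, hV, hxV, hVU⟩ := exists_isAffineOpen_mem_and_subset (x := x) (U := U) hxU
  obtain ⟨c⟩ := TMul.nonempty_restrictRestrictIso U.ι (X.homOfLE hVU) V.ι (X.homOfLE_ι _) L
  exact ⟨V, hV, hxV, ⟨c.symm ≪≫ (Scheme.Modules.restrictFunctor (X.homOfLE hVU)).mapIso e ≪≫
    Scheme.Modules.restrictUnitIso _⟩⟩

/-- High powers of an ample module twisted by pullbacks of powers of `L` have no higher direct images. -/
theorem exists_directAcyclic_twist [CompactSpace X] [IsLocallyNoetherian X] (π : Y ⟶ X) [IsProper π]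
    {B : Y.Modules} (hB : CohB1.IsAmple B) {L : X.Modules} (hL : PicF.IsInvertible L) :
    ∃ n₀ : ℕ, ∀ j, n₀ ≤ j → ∀ m : ℕ, DirectAcyclic (Opens.grothendieckTopology X) (Opens.map π.base)
      (Coh.toAb (CohB1.tensorMod (CohB1.tensorPow B j) ((Scheme.Modules.pullback π).obj (CohB1.tensorPow L m)))) := by
  choose V hV hxV hLV using exists_triv_affine hL
  obtain ⟨S, hS⟩ := isCompact_univ.elim_finite_subcover (fun x => (V x : Set X)) (fun x => (V x).isOpen)
    (fun x _ => Set.mem_iUnion.2 ⟨x, hxV x⟩)
  have key : ∀ x, ∃ n₀ : ℕ, ∀ j, n₀ ≤ j → ∀ p : ℕ, Subsingleton (Coh.HH (π ⁻¹ᵁ V x).toScheme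
      ((CohB1.tensorPow B j).restrict (π ⁻¹ᵁ V x).ι) (p + 1)) := fun x => by
    have : IsNoetherianRing Γ(X, V x) := IsLocallyNoetherian.component_noetherian ⟨V x, hV x⟩
    have hp : IsProper (π ∣_ V x) := IsZariskiLocalAtTarget.restrict (P := @IsProper) ‹_› (V x)
    have : CompactSpace (π ⁻¹ᵁ V x).toScheme :=
      isCompact_iff_compactSpace.mp (π.isCompact_preimage (hV x).isCompact)
    have hBi : CohB1.IsAmple (B.restrict (π ⁻¹ᵁ V x).ι) := TMul.isAmple_restrict _ hB
    obtain ⟨n₀, hn₀⟩ := CohFinite.vanish_ample ((π ∣_ V x) ≫ (hV x).isoSpec.hom) hBi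
      (M := Coh.structureModule (π ⁻¹ᵁ V x).toScheme)
      ⟨Groth.Agent.QC.isQCoh_unit _, TMul.isFT_structureModule _⟩
    refine ⟨n₀, fun j hj p => ?_⟩
    obtain ⟨e⟩ := TMul.nonempty_restrictPowIso (π ⁻¹ᵁ V x).ι B j
    exact CohQC.hh_subsingleton_of_iso (TMul.leftUnitIso _ ≪≫ e) _ (hn₀ j hj p)
  choose n₀ hn₀ using key
  refine ⟨S.sup n₀, fun j hj m => CohFinite.directAcyclic_of_hh_vanish π _ ?_ (fun x : S => V x.1)
    (fun x => hV _) (fun s => ?_) fun x p => ?_⟩
  · exact TMul.isQCoh_of_isInvertible (TMul.isInvertible_tensorMod (TMul.isInvertible_tensorPow hB.1 _)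
      (PicLoc.isInvertible_pullback π (TMul.isInvertible_tensorPow hL m)))
  · obtain ⟨x, hx⟩ := Set.mem_iUnion.1 (hS (Set.mem_univ s))
    obtain ⟨hxS, hsx⟩ := Set.mem_iUnion.1 hx
    exact ⟨⟨x, hxS⟩, hsx⟩
  · obtain ⟨l⟩ := hLV x.1
    obtain ⟨p₁⟩ := TMul.nonempty_restrictPowIso (V x.1).ι L m
    obtain ⟨p₂⟩ : Nonempty ((CohB1.tensorPow L m).restrict (V x.1).ι ≅ Coh.structureModule _) := by
      refine (PicGrp.cl_eq_cl_iff _ _).1 ?_
      rw [← (PicGrp.cl_eq_cl_iff _ _).2 ⟨p₁⟩, Nakai.cl_pow, (PicGrp.cl_eq_cl_iff _ _).2 ⟨l⟩]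
      exact one_pow m
    obtain ⟨t⟩ := TMul.nonempty_restrictTensorIso (π ⁻¹ᵁ V x.1).ι (CohB1.tensorPow B j)
      ((Scheme.Modules.pullback π).obj (CohB1.tensorPow L m))
    let q : ((Scheme.Modules.pullback π).obj (CohB1.tensorPow L m)).restrict (π ⁻¹ᵁ V x.1).ι ≅
        Coh.structureModule _ :=
      (DerPerf.pullRestrictIso π (V x.1)).app _ ≪≫ (Scheme.Modules.pullback _).mapIso p₂ ≪≫
        PicLoc.pullbackStructureIso _
    exact CohQC.hh_subsingleton_of_iso ((CohBound.unitR _).symm ≪≫ PicGrp.tensorModIso (Iso.refl _) q.symm ≪≫ t) _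
      (hn₀ x.1 j ((Finset.le_sup x.2).trans hj) p)

/-- The rank of the direct image of an invertible module at the generic point. -/
theorem finrank_push_generic [IsIntegral X] [IsIntegral Y] (h : Y ⟶ X) (hdom : h (genericPoint Y) = genericPoint X)
    {G : Y.Modules} (hG : PicF.IsInvertible G)
    (hb : Function.Bijective (KFlat.pushStalk h (genericPoint Y) G)) :
    Module.finrank (X.presheaf.stalk (genericPoint X))
        (((Scheme.Modules.pushforward h).obj G).presheaf.stalk (genericPoint X)) =
      h.residueDegree (genericPoint Y) := by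
  let z := genericPoint Y
  suffices key : Module.finrank (X.presheaf.stalk (h z))
      (((Scheme.Modules.pushforward h).obj G).presheaf.stalk (h z)) = h.residueDegree z from
    Eq.trans (congrArg (fun η : X => Module.finrank (X.presheaf.stalk η)
      (((Scheme.Modules.pushforward h).obj G).presheaf.stalk η)) hdom.symm) key
  let R := X.presheaf.stalk (h z)
  let K := X.residueField (h z)
  let V := Y.residueField z
  letI : Field R := by
    haveI : IsField (X.presheaf.stalk (h z)) := by
      rw [show h z = genericPoint X from hdom]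
      exact Field.toIsField X.functionField
    exact IsField.toField this
  letI : Algebra K V := (h.residueFieldMap z).hom.toAlgebra
  letI : Module R V := Module.compHom V (X.residue (h z)).hom
  letI : Algebra R K := (X.residue (h z)).hom.toAlgebra
  haveI : IsScalarTower R K V := ⟨fun a b c => by
    show ((X.residue (h z)).hom a * b) • c = (X.residue (h z)).hom a • (b • c)
    rw [mul_smul]⟩
  letI : Field (Y.presheaf.stalk z) := inferInstanceAs (Field Y.functionField)
  let ρ := (Y.residue z).hom
  have hρ : Function.Bijective ρ := ⟨ρ.injective, IsLocalRing.residue_surjective⟩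
  obtain ⟨D, g, hzD, hg⟩ := TMul.exists_isGen hG z
  let E := LinearEquiv.ofBijective (LinearMap.toSpanSingleton (Y.presheaf.stalk z)
    (G.presheaf.stalk z) (WeakAssLib.mgerm G hzD g))
    ⟨fun a b e => ZeroSch.eq_of_germ_smul hg hzD e, fun v => let ⟨r, hr⟩ := ZeroSch.exists_smul_germ hg hzD v
      ⟨r, hr.symm⟩⟩
  let e : ((Scheme.Modules.pushforward h).obj G).presheaf.stalk (h z) →ₗ[R] V :=
    { toFun := fun m => ρ (E.symm (KFlat.pushStalk h z G m))
      map_add' := fun a b => by
        rw [← map_add ρ]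
        exact congrArg ρ ((congrArg E.symm (map_add (KFlat.pushStalk h z G) a b)).trans (map_add E.symm _ _))
      map_smul' := fun r m => by
        refine (congrArg ρ ((congrArg E.symm (KFlat.pushStalk_smul h z G r m)).trans (map_smul E.symm _ _))).trans ?_
        refine (map_mul ρ ((h.stalkMap z).hom r) _).trans ?_
        show _ = (h.residueFieldMap z).hom ((X.residue (h z)).hom r) * _
        congr 1 }
  have he : Function.Bijective e := hρ.comp (E.symm.bijective.comp hb)
  rw [(LinearEquiv.ofBijective e he).finrank_eq]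
  have h1 : Module.length R V = Module.length K V :=
    Module.length_eq_of_surjective (R := K) (IsLocalRing.residue_surjective (R := R))
  rw [Module.length_eq_rank, Module.length_eq_rank] at h1
  have h2 := congrArg ENat.toNat h1
  simp only [Cardinal.toNat_toENat] at h2
  exact h2

/-- The dimension of an integral scheme is the dimension of its generic point. -/
theorem pdim_genericPoint [IsIntegral X] {K : Type u} [Field K] (c : X ⟶ Spec (CommRingCat.of K))
    [LocallyOfFiniteType c] : topologicalKrullDim X = (WeilCoh.pdim X (genericPoint X) : WithBot ℕ∞) := by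
  have h2 := BMCoh.topologicalKrullDim_closure_singleton (genericPoint X)
  rw [(WeilLib.exists_pdim_eq_trd c (genericPoint X)).2] at h2
  rw [← IsHomeomorph.topologicalKrullDim_eq _ (Homeomorph.Set.univ X).isHomeomorph]
  have h3 : closure ({genericPoint X} : Set X) = Set.univ := genericPoint_spec X
  rw [h3] at h2
  exact h2

variable (k : Type u) [Field k] [X.Over (Spec (CommRingCat.of k))] [Y.Over (Spec (CommRingCat.of k))]
  [IsProper (X ↘ Spec (CommRingCat.of k))] [IsProper (Y ↘ Spec (CommRingCat.of k))]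

/-- Asymptotic cohomology along a generically finite morphism. -/
theorem hhat_pull_eq_deg_mul [IsIntegral X] [IsIntegral Y] (f : Y ⟶ X) [IsProper f]
    (hf : f ≫ (X ↘ Spec (CommRingCat.of k)) = Y ↘ Spec (CommRingCat.of k))
    {A : X.Modules} (hA : CohB1.IsAmple A) {B : Y.Modules} (hB : CohB1.IsAmple B) {n : ℕ}
    (hn : topologicalKrullDim X = (n : WithBot ℕ∞)) (hdom : f (genericPoint Y) = genericPoint X) {d : ℕ}
    (hd : f.residueDegree (genericPoint Y) = d) (hd0 : 1 ≤ d) {L : X.Modules} (hL : PicF.IsInvertible L) (i : ℕ) :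
    W4c5asymptcohfn.hhat k Y n i ((Scheme.Modules.pullback f).obj L) = (d : ℝ) * W4c5asymptcohfn.hhat k X n i L := by
  haveI := CurveRR.isNoetherian_of_proper k X
  haveI := CurveRR.isNoetherian_of_proper k Y
  have hnY : topologicalKrullDim Y = (n : WithBot ℕ∞) := by
    rw [pdim_genericPoint (Y ↘ Spec (CommRingCat.of k)), ← WeilLib.pdim_eq_of_residueDegree_ne_zero
      (Y ↘ Spec (CommRingCat.of k)) f (X ↘ Spec (CommRingCat.of k)) hf (x := genericPoint Y) (by omega), hdom,
      ← pdim_genericPoint (X ↘ Spec (CommRingCat.of k)), hn]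
  have hO : Coh.IsCoh (Coh.structureModule Y) := Nakai.isCoh_one k
  haveI : (Coh.structureModule Y).IsQuasicoherent := Groth.Agent.QC.isQCoh_unit Y
  obtain ⟨n₁, h₁⟩ := exists_directAcyclic_twist f hB hL
  obtain ⟨n₂, h₂⟩ := TMul.exists_forall_genOn hB (F := Coh.structureModule Y) hO.2
  let G := CohB1.tensorPow B (max n₁ n₂)
  have hGi : PicF.IsInvertible G := TMul.isInvertible_tensorPow hB.1 _
  have hG : Coh.IsCoh G := ⟨TMul.isQCoh_of_isInvertible hGi, TMul.isFT_of_isInvertible hGi⟩
  obtain ⟨D, hD, hηD, hgen⟩ := h₂ (max n₁ n₂) (le_max_right _ _) (genericPoint Y)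
  obtain ⟨σ, hσ⟩ := TMul.exists_mem_genLocus_of_genOn hGi hD (hgen.congr (TMul.leftUnitIso G)) hηD
  have hfib : f ⁻¹' {f (genericPoint Y)} ∩ CohB1.support G ⊆ {genericPoint Y} := fun y hy => by
    refine (Intersect.eq_of_dim (X := Y) ((genericPoint_spec Y).specializes trivial)
      ((topologicalKrullDim_subspace_le Y _).trans hnY.le)
      (le_antisymm ((topologicalKrullDim_subspace_le Y _).trans hnY.le) ?_)).symm
    refine le_trans ?_ (Intersect.dim_image_le f isClosed_closure)
    rw [Intersect.image_closure f y, show f y = genericPoint X from hy.1.trans hdom,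
        show closure ({genericPoint X} : Set X) = Set.univ from genericPoint_spec X,
        IsHomeomorph.topologicalKrullDim_eq _ (Homeomorph.Set.univ X).isHomeomorph, hn]
  have hb := Intersect.pushStalk_bijective_of_fibre f f.isClosedMap G (Groth.Agent.QC.isClosed_support hG.2) _ hfib
  have hP := Intersect.isCoh_push' f hG
  have hr := (finrank_push_generic f hdom hGi hb).trans hd
  rw [← hhatF_eq_rank_mul k hA hn.le hP hr hL i, hhatF_eq,
    hhat_eq k n i ![(Scheme.Modules.pullback f).obj L] ![1] (P := (Scheme.Modules.pullback f).obj L) (by simp [cl_N])]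
  have hL' : ∀ j, PicF.IsInvertible ((![L] : Fin 1 → X.Modules) j) := fun j => by fin_cases j; exact hL
  have hLY : ∀ j, PicF.IsInvertible ((![(Scheme.Modules.pullback f).obj L] : Fin 1 → Y.Modules) j) := fun j => by
    fin_cases j; exact PicLoc.isInvertible_pullback f hL
  have hσi := CohBound.isIso_stalk_mulSec (Coh.structureModule Y) σ hσ
  rw [limsup_eq_of_generic_iso k hB hnY.le hLY hO (CohFinite.isCoh_tensor hO hGi)
    (CohBound.mulSec (Coh.structureModule Y) σ) hσi i ![1]]
  refine congrArg (fun u => limsup u atTop) (funext fun m => ?_)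
  simp only [vseq]
  refine congrArg (fun c : ℕ => (c : ℝ) * (n.factorial : ℝ) / (m : ℝ) ^ n) ?_
  simp only [hN]
  obtain ⟨e⟩ := CohFinite.hh_push_linear k f hf _ (h₁ (max n₁ n₂) (le_max_left _ _) m) i
  obtain ⟨q⟩ := TMul.nonempty_pullPowIso f L m
  haveI := W7Hull.isIso_projMap_of_invertible f G (TMul.isInvertible_tensorPow hL m)
  have s1 : CurveRR.h k (CohB1.tensorMod (CohB1.tensorMod (Coh.structureModule Y) G)
      (Intersect.N ![(Scheme.Modules.pullback f).obj L] (m • ![1]))) i =
      CurveRR.h k (CohB1.tensorMod G ((Scheme.Modules.pullback f).obj (CohB1.tensorPow L m))) i := by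
    refine Nakai.h_congr k ?_ i
    rw [Nakai.cl_tensor, Nakai.cl_tensor, Nakai.cl_tensor, cl_N, Fin.prod_univ_one,
      ← (PicGrp.cl_eq_cl_iff _ _).2 ⟨q⟩, show PicF.cl (Coh.structureModule Y) = 1 from rfl, one_mul]
    simp [Nakai.cl_pow]
  have s2 : CurveRR.h k (CohB1.tensorMod ((Scheme.Modules.pushforward f).obj G) (Intersect.N ![L] (m • ![1]))) i =
      CurveRR.h k (CohB1.tensorMod ((Scheme.Modules.pushforward f).obj G) (CohB1.tensorPow L m)) i := by
    refine Nakai.h_congr k ?_ i
    rw [Nakai.cl_tensor, Nakai.cl_tensor, cl_N, Fin.prod_univ_one, Nakai.cl_pow]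
    simp
  rw [s1, s2, CurveRR.h_eq_of_iso (asIso (CohFinite.projMap f G (CohB1.tensorPow L m))) i]
  exact e.finrank_eq

end Groth.Agent.AsympCoh
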