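import Groth.Agent.AsympCoh.Limsup
import Groth.Agent.Intersect.Apps

/-!
Integral exponents: growth and Lipschitz estimate; twisting down by an ample module.
-/

set_option autoImplicit false
set_option linter.unusedSectionVars false
set_option linter.style.haveILetI false
set_option backward.isDefEq.respectTransparency false
set_option backward.isDefEq.respectTransparency.types false
set_option maxHeartbeats 1000000

universe u

open CategoryTheory CategoryTheory.Limits AlgebraicGeometry TopologicalSpace Filter Topology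

noncomputable section

namespace Groth.Agent.AsympCoh

attribute [local instance] Nakai.clMonoid

variable {X : Scheme.{u}} {r : ℕ}

/-- The exponents on the modules and their inverses. -/
def expo (a : Fin r → ℤ) : Fin (r + r) → ℕ :=
  Fin.append (fun j => (a j).toNat) (fun j => (-(a j)).toNat)

theorem cl_ztwist (L M : Fin r → X.Modules) (a : Fin r → ℤ) :
    PicF.cl (W4c5asymptcohfn.ztwist X L M a) = PicF.cl (Intersect.N (Fin.append L M) (expo a)) := by
  obtain ⟨e₁⟩ := Intersect.nonempty_multiTwist_iso L (fun j => (a j).toNat)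
  obtain ⟨e₂⟩ := Intersect.nonempty_multiTwist_iso M (fun j => (-(a j)).toNat)
  rw [W4c5asymptcohfn.ztwist, Nakai.cl_tensor, (PicGrp.cl_eq_cl_iff _ _).2 ⟨e₁⟩, (PicGrp.cl_eq_cl_iff _ _).2 ⟨e₂⟩,
    cl_N, cl_N, cl_N, Fin.prod_univ_add]
  simp only [expo, Fin.append_left, Fin.append_right]

theorem size_expo (a : Fin r → ℤ) : (size (expo a) : ℝ) ≤ (r : ℝ) * ‖(fun j => ((a j : ℤ) : ℝ))‖ := by
  have h : ∀ j : Fin r, (((a j).toNat + (-(a j)).toNat : ℕ) : ℝ) ≤ ‖(fun j => ((a j : ℤ) : ℝ))‖ := fun j => by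
    refine le_trans (le_of_eq ?_) (norm_le_pi_norm (fun j => ((a j : ℤ) : ℝ)) j)
    rw [Real.norm_eq_abs, ← Int.cast_abs, show (((a j).toNat + (-(a j)).toNat : ℕ) : ℝ) =
      ((((a j).toNat + (-(a j)).toNat : ℕ) : ℤ) : ℝ) by push_cast; rfl]
    congr 1
    push_cast
    rcases le_total 0 (a j) with h | h
    · rw [abs_of_nonneg h]; omega
    · rw [abs_of_nonpos h]; omega
  calc (size (expo a) : ℝ) = ∑ j : Fin r, (((a j).toNat + (-(a j)).toNat : ℕ) : ℝ) := by
        simp only [size, expo, Fin.sum_univ_add, Fin.append_left, Fin.append_right]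
        push_cast [Finset.sum_add_distrib]
        rfl
    _ ≤ ∑ _j : Fin r, ‖(fun j => ((a j : ℤ) : ℝ))‖ := Finset.sum_le_sum fun j _ => h j
    _ = _ := by simp

theorem dist_expo (a b : Fin r → ℤ) :
    ((∑ j, Nat.dist (expo a j) (expo b j) : ℕ) : ℝ) ≤ (r : ℝ) * ‖(fun j => ((a j - b j : ℤ) : ℝ))‖ := by
  have h : ∀ j : Fin r, ((Nat.dist (a j).toNat (b j).toNat + Nat.dist (-(a j)).toNat (-(b j)).toNat : ℕ) : ℝ) ≤
      ‖(fun j => ((a j - b j : ℤ) : ℝ))‖ := fun j => by
    refine le_trans ?_ (norm_le_pi_norm (fun j => ((a j - b j : ℤ) : ℝ)) j)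
    rw [Real.norm_eq_abs, ← Int.cast_abs,
      show ((Nat.dist (a j).toNat (b j).toNat + Nat.dist (-(a j)).toNat (-(b j)).toNat : ℕ) : ℝ) =
        (((Nat.dist (a j).toNat (b j).toNat + Nat.dist (-(a j)).toNat (-(b j)).toNat : ℕ) : ℤ) : ℝ) by
        push_cast; rfl]
    refine Int.cast_le.2 ?_
    simp only [Nat.dist]
    rcases le_total 0 (a j - b j) with h | h
    · rw [abs_of_nonneg h]; omega
    · rw [abs_of_nonpos h]; omega
  calc ((∑ j, Nat.dist (expo a j) (expo b j) : ℕ) : ℝ)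
      = ∑ j : Fin r, ((Nat.dist (a j).toNat (b j).toNat + Nat.dist (-(a j)).toNat (-(b j)).toNat : ℕ) : ℝ) := by
        simp only [expo, Fin.sum_univ_add, Fin.append_left, Fin.append_right]
        push_cast [Finset.sum_add_distrib]
        rfl
    _ ≤ ∑ _j : Fin r, ‖(fun j => ((a j - b j : ℤ) : ℝ))‖ := Finset.sum_le_sum fun j _ => h j
    _ = _ := by simp

theorem one_le_norm {a : Fin r → ℤ} (ha : a ≠ 0) : (1 : ℝ) ≤ ‖(fun j => ((a j : ℤ) : ℝ))‖ := by
  obtain ⟨j, hj⟩ : ∃ j, a j ≠ 0 := by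
    by_contra! h
    exact ha (funext h)
  refine le_trans ?_ (norm_le_pi_norm (fun j => ((a j : ℤ) : ℝ)) j)
  rw [Real.norm_eq_abs, ← Int.cast_abs]
  exact_mod_cast Int.one_le_abs hj

variable (k : Type u) [Field k] [X.Over (Spec (CommRingCat.of k))] [IsProper (X ↘ Spec (CommRingCat.of k))]
  {L₀ : X.Modules} (hL₀ : CohB1.IsAmple L₀) {n : ℕ} (hn : topologicalKrullDim X ≤ (n : WithBot ℕ∞))
  {L M : Fin r → X.Modules} (hL : ∀ j, PicF.IsInvertible (L j)) (hM : ∀ j, PicF.IsInvertible (M j))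

include hL hM in
theorem isInvertible_append : ∀ j, PicF.IsInvertible (Fin.append L M j) := fun j =>
  Fin.addCases (motive := fun j => PicF.IsInvertible (Fin.append L M j))
    (fun i => by rw [Fin.append_left]; exact hL i) (fun i => by rw [Fin.append_right]; exact hM i) j

include hL₀ hn hL hM in
/-- Growth of the asymptotic cohomology. -/
theorem hhat_le_norm_pow (i : ℕ) : ∃ C : ℝ, ∀ a : Fin r → ℤ,
    W4c5asymptcohfn.hhat k X n i (W4c5asymptcohfn.ztwist X L M a) ≤ C * ‖(fun j => ((a j : ℤ) : ℝ))‖ ^ n := by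
  haveI := CurveRR.isNoetherian_of_proper k X
  have hF := Nakai.isCoh_one k (X := X)
  obtain ⟨C, hC0, hC⟩ := exists_vseq_le k (isInvertible_append hL hM) hL₀ hn hF i
  refine ⟨C * ((r : ℝ) + 1) ^ n, fun a => ?_⟩
  rw [hhat_eq k n i _ _ (cl_ztwist L M a)]
  by_cases ha : a = 0
  · subst ha
    have hs : expo (0 : Fin r → ℤ) = 0 := funext fun j => by
      refine Fin.addCases (fun i => ?_) (fun i => ?_) j <;>
        simp only [expo, Fin.append_left, Fin.append_right, Pi.zero_apply, neg_zero, Int.toNat_zero]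
    rcases Nat.eq_zero_or_pos n with rfl | hn0
    · simp only [pow_zero, mul_one]
      refine limsup_le_of_le (isCoboundedUnder_le_of_le atTop (vseq_nonneg k 0 i _ _ _))
        ((eventually_ge_atTop 1).mono fun m hm => ?_)
      simpa using hC _ m hm
    · have h0 : Tendsto (vseq k n i (Fin.append L M) (Coh.structureModule X) (expo 0)) atTop (𝓝 0) := by
        rw [hs]
        unfold vseq
        simp only [smul_zero]
        exact ((tendsto_const_div_atTop_nhds_zero_nat
          ((hN k (Fin.append L M) (Coh.structureModule X) i 0 : ℝ) * (n.factorial : ℝ))).comp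
            (tendsto_pow_atTop hn0.ne')).congr fun m => by simp
      rw [h0.limsup_eq]
      positivity
  refine limsup_le_of_le (isCoboundedUnder_le_of_le atTop (vseq_nonneg k n i _ _ _))
    ((eventually_ge_atTop 1).mono fun m hm => (hC _ m hm).trans ?_)
  rw [mul_assoc, ← mul_pow]
  refine mul_le_mul_of_nonneg_left (pow_le_pow_left₀ (by positivity) ?_ n) hC0
  have h1 := size_expo a
  have h2 := one_le_norm ha
  nlinarith

include hL₀ hn hL hM in
/-- The Lipschitz estimate. -/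
theorem hhat_lipschitz (i : ℕ) : ∃ C : ℝ, ∀ a b : Fin r → ℤ,
    |W4c5asymptcohfn.hhat k X n i (W4c5asymptcohfn.ztwist X L M a) -
        W4c5asymptcohfn.hhat k X n i (W4c5asymptcohfn.ztwist X L M b)| ≤
      C * (Finset.Icc 1 n).sum (fun q => (max ‖(fun j => ((a j : ℤ) : ℝ))‖ ‖(fun j => ((b j : ℤ) : ℝ))‖) ^ (n - q) *
        ‖(fun j => ((a j - b j : ℤ) : ℝ))‖ ^ q) := by
  haveI := CurveRR.isNoetherian_of_proper k X
  have hF := Nakai.isCoh_one k (X := X)
  obtain ⟨C, hC0, hC⟩ := exists_lip k (isInvertible_append hL hM) hL₀ hn hF i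
  refine ⟨C * r * n * ((r : ℝ) + 2) ^ (n - 1), fun a b => ?_⟩
  rw [hhat_eq k n i _ _ (cl_ztwist L M a), hhat_eq k n i _ _ (cl_ztwist L M b)]
  set μ := max ‖(fun j => ((a j : ℤ) : ℝ))‖ ‖(fun j => ((b j : ℤ) : ℝ))‖
  set ν := ‖(fun j => ((a j - b j : ℤ) : ℝ))‖
  have hμ : 0 ≤ μ := le_max_of_le_left (norm_nonneg _)
  have hν : 0 ≤ ν := norm_nonneg _
  have hsum0 : 0 ≤ (Finset.Icc 1 n).sum (fun q => μ ^ (n - q) * ν ^ q) := Finset.sum_nonneg fun q _ => by positivity
  by_cases hab : a = b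
  · subst hab
    rw [sub_self, abs_zero]
    positivity
  have hμ1 : 1 ≤ μ := by
    by_cases ha : a = 0
    · exact le_max_of_le_right (one_le_norm fun hb => hab (ha.trans hb.symm))
    · exact le_max_of_le_left (one_le_norm ha)
  refine (hC (max (size (expo a)) (size (expo b))) (expo a) (expo b) (le_max_left _ _) (le_max_right _ _)).trans ?_
  have hd := dist_expo a b
  have hS : ((max (size (expo a)) (size (expo b)) : ℕ) : ℝ) + 1 ≤ ((r : ℝ) + 2) * μ := by
    have hr : (0 : ℝ) ≤ r := Nat.cast_nonneg r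
    have h1 := (size_expo a).trans (mul_le_mul_of_nonneg_left (le_max_left _ ‖(fun j => ((b j : ℤ) : ℝ))‖) hr)
    have h2 := (size_expo b).trans (mul_le_mul_of_nonneg_left (le_max_right ‖(fun j => ((a j : ℤ) : ℝ))‖ _) hr)
    have h3 : ((max (size (expo a)) (size (expo b)) : ℕ) : ℝ) ≤ (r : ℝ) * μ := by
      rw [Nat.cast_max]; exact max_le h1 h2
    nlinarith
  rcases Nat.eq_zero_or_pos n with rfl | hn0
  · simp
  calc C * _ * ((n : ℝ) * (((max (size (expo a)) (size (expo b)) : ℕ) : ℝ) + 1) ^ (n - 1))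
      ≤ C * ((r : ℝ) * ν) * ((n : ℝ) * ((((r : ℝ) + 2) * μ)) ^ (n - 1)) :=
        mul_le_mul (mul_le_mul_of_nonneg_left hd hC0)
          (mul_le_mul_of_nonneg_left (pow_le_pow_left₀ (by positivity) hS _) (Nat.cast_nonneg n))
          (by positivity) (by positivity)
    _ = C * r * n * ((r : ℝ) + 2) ^ (n - 1) * (μ ^ (n - 1) * ν ^ 1) := by rw [mul_pow, pow_one]; ring
    _ ≤ _ := mul_le_mul_of_nonneg_left
        (Finset.single_le_sum (f := fun q => μ ^ (n - q) * ν ^ q) (fun q _ => by positivity)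
          (Finset.mem_Icc.2 ⟨le_rfl, hn0⟩)) (by positivity)

include hL₀ hn in
/-- Twisting down by an ample module is of lower order. -/
theorem tendsto_sub_div_pow {P A' : X.Modules} (hP : PicF.IsInvertible P) (hA' : PicF.IsInvertible A') (i : ℕ) :
    Tendsto (fun p : ℕ => (W4c5asymptcohfn.hhat k X n i (CohB1.tensorMod (CohB1.tensorPow P p) A') -
      W4c5asymptcohfn.hhat k X n i (CohB1.tensorPow P p)) / (p : ℝ) ^ n) atTop (𝓝 0) := by
  haveI := CurveRR.isNoetherian_of_proper k X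
  have hF := Nakai.isCoh_one k (X := X)
  have hL' : ∀ j, PicF.IsInvertible ((![P, A'] : Fin 2 → X.Modules) j) := fun j => by
    fin_cases j
    · exact hP
    · exact hA'
  obtain ⟨C, hC0, hC⟩ := exists_lip k hL' hL₀ hn hF i
  have e : ∀ p : ℕ, |W4c5asymptcohfn.hhat k X n i (CohB1.tensorMod (CohB1.tensorPow P p) A') -
      W4c5asymptcohfn.hhat k X n i (CohB1.tensorPow P p)| ≤ C * ((n : ℝ) * ((p : ℝ) + 2) ^ (n - 1)) := fun p => by
    rw [hhat_eq k n i ![P, A'] ![p, 1] (by simp [Nakai.cl_tensor, Nakai.cl_pow, cl_N, Fin.prod_univ_two]),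
      hhat_eq k n i ![P, A'] ![p, 0] (by simp [Nakai.cl_pow, cl_N, Fin.prod_univ_two])]
    refine (hC (p + 1) ![p, 1] ![p, 0] (by simp [size]) (by simp [size])).trans (le_of_eq ?_)
    rw [show ((∑ j, Nat.dist ((![p, 1] : Fin 2 → ℕ) j) ((![p, 0] : Fin 2 → ℕ) j))) = 1 by simp [Nat.dist],
      Nat.cast_one, mul_one]
    push_cast
    ring_nf
  rcases Nat.eq_zero_or_pos n with rfl | hn0
  · refine tendsto_const_nhds.congr fun p => ?_
    have := e p
    simp only [Nat.cast_zero, zero_mul, mul_zero, abs_nonpos_iff] at this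
    rw [this, zero_div]
  refine squeeze_zero_norm' ((eventually_ge_atTop 1).mono fun p hp => ?_)
    (tendsto_const_div_atTop_nhds_zero_nat (C * ((n : ℝ) * 3 ^ (n - 1))))
  have hp0 : (0 : ℝ) < p := by exact_mod_cast hp
  have hp1 : (1 : ℝ) ≤ p := by exact_mod_cast hp
  rw [Real.norm_eq_abs, abs_div, abs_of_pos (pow_pos hp0 n), div_le_div_iff₀ (pow_pos hp0 n) hp0]
  calc _ ≤ C * ((n : ℝ) * ((p : ℝ) + 2) ^ (n - 1)) * p := mul_le_mul_of_nonneg_right (e p) hp0.le
    _ ≤ C * ((n : ℝ) * (3 * (p : ℝ)) ^ (n - 1)) * p := by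
      gcongr
      linarith
    _ = C * ((n : ℝ) * 3 ^ (n - 1)) * ((p : ℝ) ^ (n - 1) * p) := by rw [mul_pow]; ring
    _ = _ := by rw [← pow_succ, Nat.sub_add_cancel hn0]

end Groth.Agent.AsympCoh
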