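import Groth.Agent.AsympCoh.Bound
import Groth.Prelude.Def_W4c5asymptcohfnACF
import Mathlib.Analysis.SpecificLimits.Basic
import Mathlib.Analysis.Normed.Group.Constructions
import Mathlib.Analysis.Normed.Group.Real

/-!
Asymptotic cohomological functions of monomials in finitely many invertible modules.
-/

set_option autoImplicit false
set_option linter.unusedSectionVars false
set_option linter.style.haveILetI false
set_option backward.isDefEq.respectTransparency false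
set_option backward.isDefEq.respectTransparency.types false
set_option maxHeartbeats 1000000

universe u

open CategoryTheory CategoryTheory.Limits AlgebraicGeometry TopologicalSpace Filter Topology

noncomputable section

namespace Groth.Agent.AsympCoh

attribute [local instance] Nakai.clMonoid

section Real

theorem le_limsup_add {u v : ℕ → ℝ} {D K : ℝ} (hu : ∀ m, 0 ≤ u m) (hv : ∀ᶠ m in atTop, v m ≤ K)
    (h : ∀ᶠ m in atTop, u m ≤ v m + D) : limsup u atTop ≤ limsup v atTop + D := by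
  refine le_of_forall_pos_lt_add fun ε hε => ?_
  have h1 : ∀ᶠ m in atTop, v m < limsup v atTop + ε / 2 :=
    eventually_lt_of_limsup_lt (by linarith) ⟨K, eventually_map.2 hv⟩
  have h2 : limsup u atTop ≤ limsup v atTop + ε / 2 + D :=
    limsup_le_of_le (isCoboundedUnder_le_of_le atTop hu) ((h.and h1).mono fun m hm => by linarith [hm.1, hm.2])
  linarith

theorem limsup_eq_of_sub_tendsto {u v : ℕ → ℝ} {K : ℝ} (hu : ∀ m, 0 ≤ u m) (hv : ∀ m, 0 ≤ v m)
    (hK : ∀ᶠ m in atTop, u m ≤ K) (h : Tendsto (fun m => u m - v m) atTop (𝓝 0)) :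
    limsup u atTop = limsup v atTop := by
  have hev : ∀ ε : ℝ, 0 < ε → ∀ᶠ m in atTop, u m ≤ v m + ε ∧ v m ≤ u m + ε := fun ε hε =>
    (h.eventually (Metric.ball_mem_nhds (0 : ℝ) hε)).mono fun m hm => by
      rw [Real.dist_eq, sub_zero, abs_lt] at hm
      constructor <;> linarith [hm.1, hm.2]
  have hK' : ∀ᶠ m in atTop, v m ≤ K + 1 :=
    ((hev 1 one_pos).and hK).mono fun m hm => by linarith [hm.1.2, hm.2]
  refine le_antisymm ?_ ?_
  · exact le_of_forall_pos_le_add fun ε hε => le_limsup_add hu hK' ((hev ε hε).mono fun m hm => hm.1)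
  · exact le_of_forall_pos_le_add fun ε hε => le_limsup_add hv hK ((hev ε hε).mono fun m hm => hm.2)

theorem nonneg_limsup {u : ℕ → ℝ} {K : ℝ} (hu : ∀ m, 0 ≤ u m) (hK : ∀ᶠ m in atTop, u m ≤ K) :
    0 ≤ limsup u atTop :=
  le_limsup_of_frequently_le (Frequently.of_forall hu) ⟨K, eventually_map.2 hK⟩

/-- The size of the pieces, scaled. -/
theorem poly_scaled (n m S : ℕ) (hm : 1 ≤ m) :
    (poly (n + 1) (m * S) : ℝ) ≤ ((n : ℝ) + 1) * ((S : ℝ) + 1) ^ n * (m : ℝ) ^ n := by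
  have h : poly (n + 1) (m * S) ≤ (n + 1) * ((S + 1) ^ n * m ^ n) := by
    rw [poly, Nat.add_sub_cancel, ← mul_pow]
    exact Nat.mul_le_mul_left _ (Nat.pow_le_pow_left (by rw [add_mul, one_mul, mul_comm m S]; omega) _)
  calc (poly (n + 1) (m * S) : ℝ) ≤ (((n + 1) * ((S + 1) ^ n * m ^ n) : ℕ) : ℝ) := by exact_mod_cast h
    _ = _ := by push_cast; ring

end Real

variable {X : Scheme.{u}} (k : Type u) [Field k] [X.Over (Spec (CommRingCat.of k))] {s : ℕ}

/-- The normalised sequence of a monomial. -/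
def vseq (n i : ℕ) (L : Fin s → X.Modules) (F : X.Modules) (a : Fin s → ℕ) (m : ℕ) : ℝ :=
  (hN k L F i (m • a) : ℝ) * (n.factorial : ℝ) / (m : ℝ) ^ n

theorem vseq_nonneg (n i : ℕ) (L : Fin s → X.Modules) (F : X.Modules) (a : Fin s → ℕ) (m : ℕ) :
    0 ≤ vseq k n i L F a m := by
  unfold vseq; positivity

theorem size_smul (a : Fin s → ℕ) (m : ℕ) : size (m • a) = m * size a := by
  simp [size, Finset.mul_sum]

theorem hhat_eq (n i : ℕ) (L : Fin s → X.Modules) (a : Fin s → ℕ) {P : X.Modules}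
    (hP : PicF.cl P = PicF.cl (Intersect.N L a)) :
    W4c5asymptcohfn.hhat k X n i P = limsup (vseq k n i L (Coh.structureModule X) a) atTop := by
  refine congrArg (fun u => limsup u atTop) (funext fun m => ?_)
  have h : CurveRR.h k (CohB1.tensorPow P m) i = hN k L (Coh.structureModule X) i (m • a) :=
    Nakai.h_congr k (by rw [Nakai.cl_pow, Nakai.cl_tensor, Nakai.cl_one, one_mul, cl_N_smul, hP]) i
  rw [vseq, ← h]

theorem hhatF_eq (n i : ℕ) (F L : X.Modules) :
    W4c5asymptcohfn.hhatF k X n i F L = limsup (vseq k n i ![L] F ![1]) atTop := by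
  refine congrArg (fun u => limsup u atTop) (funext fun m => ?_)
  have h : CurveRR.h k (CohB1.tensorMod F (CohB1.tensorPow L m)) i = hN k ![L] F i (m • ![1]) :=
    Nakai.h_congr k (by simp [Nakai.cl_tensor, Nakai.cl_pow, cl_N]) i
  rw [vseq, ← h]
  rfl

variable [IsProper (X ↘ Spec (CommRingCat.of k))] {L : Fin s → X.Modules} (hL : ∀ j, PicF.IsInvertible (L j))
  {L₀ : X.Modules} (hL₀ : CohB1.IsAmple L₀) {n : ℕ} (hn : topologicalKrullDim X ≤ (n : WithBot ℕ∞))
  {F : X.Modules} (hF : Coh.IsCoh F)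

include hL hL₀ hn hF in
theorem exists_vseq_le (i : ℕ) : ∃ C : ℝ, 0 ≤ C ∧ ∀ a : Fin s → ℕ, ∀ m : ℕ, 1 ≤ m →
    vseq k n i L F a m ≤ C * ((size a : ℝ) + 1) ^ n := by
  obtain ⟨C, hC⟩ := bdd_all k L hL hL₀ (n + 1) F hF (noCh_top k hn F) i
  refine ⟨(C : ℝ) * ((n : ℝ) + 1) * n.factorial, by positivity, fun a m hm => ?_⟩
  have hm0 : (0 : ℝ) < (m : ℝ) ^ n := pow_pos (by exact_mod_cast hm) _
  rw [vseq, div_le_iff₀ hm0]
  have h1 : (hN k L F i (m • a) : ℝ) ≤ (C : ℝ) * (((n : ℝ) + 1) * ((size a : ℝ) + 1) ^ n * (m : ℝ) ^ n) := by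
    refine le_trans (b := (C : ℝ) * (poly (n + 1) (m * size a) : ℝ)) ?_
      (mul_le_mul_of_nonneg_left (poly_scaled n m _ hm) (Nat.cast_nonneg C))
    have := hC (m • a)
    rw [size_smul] at this
    exact_mod_cast this
  exact (mul_le_mul_of_nonneg_right h1 (Nat.cast_nonneg _)).trans (le_of_eq (by ring))

include hL hL₀ hn hF in
theorem exists_vseq_bound (i : ℕ) (a : Fin s → ℕ) : ∃ K : ℝ, ∀ᶠ m in atTop, vseq k n i L F a m ≤ K := by
  obtain ⟨C, -, hC⟩ := exists_vseq_le k hL hL₀ hn hF i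
  exact ⟨_, (eventually_ge_atTop 1).mono fun m hm => hC a m hm⟩

include hL hL₀ hn hF in
/-- Lipschitz estimate for the upper limits. -/
theorem exists_lip (i : ℕ) : ∃ C : ℝ, 0 ≤ C ∧ ∀ (S : ℕ) (a b : Fin s → ℕ), size a ≤ S → size b ≤ S →
    |limsup (vseq k n i L F a) atTop - limsup (vseq k n i L F b) atTop| ≤
      C * (((∑ j, Nat.dist (a j) (b j)) : ℕ) : ℝ) * ((n : ℝ) * ((S : ℝ) + 1) ^ (n - 1)) := by
  obtain ⟨C, hC⟩ := lip k L hL hL₀ hn hF i
  refine ⟨(C : ℝ) * n.factorial, by positivity, ?_⟩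
  suffices one : ∀ (S : ℕ) (a b : Fin s → ℕ), size a ≤ S → size b ≤ S →
      limsup (vseq k n i L F a) atTop ≤ limsup (vseq k n i L F b) atTop +
        (C : ℝ) * n.factorial * (((∑ j, Nat.dist (a j) (b j)) : ℕ) : ℝ) * ((n : ℝ) * ((S : ℝ) + 1) ^ (n - 1)) by
    intro S a b ha hb
    have h1 := one S a b ha hb
    have h2 := one S b a hb ha
    rw [show (∑ j, Nat.dist (b j) (a j)) = ∑ j, Nat.dist (a j) (b j) from
      Finset.sum_congr rfl fun j _ => Nat.dist_comm _ _] at h2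
    rw [abs_le]
    constructor <;> linarith
  intro S a b ha hb
  obtain ⟨K, hK⟩ := exists_vseq_bound k hL hL₀ hn hF i b
  refine le_limsup_add (vseq_nonneg k n i L F a) hK ((eventually_ge_atTop 1).mono fun m hm => ?_)
  have h := hC (m * S) (m • a) (m • b) (by rw [size_smul]; exact Nat.mul_le_mul_left _ ha)
    (by rw [size_smul]; exact Nat.mul_le_mul_left _ hb)
  rw [show (∑ j, Nat.dist ((m • a) j) ((m • b) j)) = m * ∑ j, Nat.dist (a j) (b j) by
    simp [Finset.mul_sum, Nat.dist_mul_left]] at h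
  rcases Nat.eq_zero_or_pos n with rfl | hn0
  · simp only [poly, zero_mul, mul_zero, add_zero] at h
    simp only [vseq, pow_zero, div_one, Nat.cast_zero, zero_mul, mul_zero, add_zero]
    exact mul_le_mul_of_nonneg_right (by exact_mod_cast h) (Nat.cast_nonneg _)
  obtain ⟨n', rfl⟩ : ∃ n', n = n' + 1 := ⟨n - 1, by omega⟩
  set D := ∑ j, Nat.dist (a j) (b j)
  have hm0 : (0 : ℝ) < (m : ℝ) ^ (n' + 1) := pow_pos (by exact_mod_cast hm) _
  have h1 : (hN k L F i (m • a) : ℝ) ≤ (hN k L F i (m • b) : ℝ) +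
      (m : ℝ) * (D : ℝ) * ((C : ℝ) * (((n' : ℝ) + 1) * ((S : ℝ) + 1) ^ n' * (m : ℝ) ^ n')) := by
    refine le_trans (b := (hN k L F i (m • b) : ℝ) + (m : ℝ) * (D : ℝ) * ((C : ℝ) * (poly (n' + 1) (m * S) : ℝ)))
      (by exact_mod_cast h) (add_le_add_right (mul_le_mul_of_nonneg_left
        (mul_le_mul_of_nonneg_left (poly_scaled n' m S hm) (Nat.cast_nonneg C)) (by positivity)) _)
  rw [vseq, vseq, div_le_iff₀ hm0, add_mul, div_mul_cancel₀ _ hm0.ne', Nat.add_sub_cancel]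
  refine (mul_le_mul_of_nonneg_right h1 (Nat.cast_nonneg _)).trans (le_of_eq ?_)
  push_cast
  ring

omit [IsProper (X ↘ Spec (CommRingCat.of k))] in
/-- A difference of one order less disappears. -/
theorem tendsto_of_abs_le {u : ℕ → ℝ} {C : ℕ} {n' c : ℕ}
    (h : ∀ m, |u m| * (m : ℝ) ^ n' ≤ (C : ℝ) * (poly n' (m * c + c) : ℝ)) :
    Tendsto u atTop (𝓝 0) := by
  rcases Nat.eq_zero_or_pos n' with rfl | h0
  · refine tendsto_const_nhds.congr fun m => ?_
    have := h m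
    simp [poly] at this
    exact this.symm
  obtain ⟨p, rfl⟩ : ∃ p, n' = p + 1 := ⟨n' - 1, by omega⟩
  refine squeeze_zero_norm' ((eventually_ge_atTop 1).mono fun m hm => ?_)
    (tendsto_const_div_atTop_nhds_zero_nat ((C : ℝ) * (((p : ℝ) + 1) * ((2 * c : ℕ) + 1) ^ p)))
  have hm0 : (0 : ℝ) < m := by exact_mod_cast hm
  have h1 : poly (p + 1) (m * c + c) ≤ poly (p + 1) (m * (2 * c)) :=
    poly_mono _ (by have := Nat.mul_le_mul_right c hm; nlinarith)
  have h2 : (poly (p + 1) (m * c + c) : ℝ) ≤ ((p : ℝ) + 1) * (((2 * c : ℕ) : ℝ) + 1) ^ p * (m : ℝ) ^ p :=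
    le_trans (by exact_mod_cast h1) (poly_scaled p m (2 * c) hm)
  rw [Real.norm_eq_abs, le_div_iff₀ hm0]
  refine le_of_mul_le_mul_right ?_ (pow_pos hm0 p)
  calc |u m| * (m : ℝ) * (m : ℝ) ^ p = |u m| * (m : ℝ) ^ (p + 1) := by ring
    _ ≤ (C : ℝ) * (poly (p + 1) (m * c + c) : ℝ) := h m
    _ ≤ (C : ℝ) * (((p : ℝ) + 1) * (((2 * c : ℕ) : ℝ) + 1) ^ p * (m : ℝ) ^ p) :=
      mul_le_mul_of_nonneg_left h2 (Nat.cast_nonneg C)
    _ = _ := by ring

include hL hL₀ hn hF in
/-- Modules with nearly the same cohomology have the same upper limits. -/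
theorem limsup_congr_of_close {G : X.Modules} (i : ℕ) (a : Fin s → ℕ)
    (h : ∃ C : ℕ, ∀ m : ℕ, hN k L F i (m • a) ≤ hN k L G i (m • a) + C * poly n (size (m • a)) ∧
      hN k L G i (m • a) ≤ hN k L F i (m • a) + C * poly n (size (m • a))) :
    limsup (vseq k n i L F a) atTop = limsup (vseq k n i L G a) atTop := by
  obtain ⟨C, hC⟩ := h
  obtain ⟨K, hK⟩ := exists_vseq_bound k hL hL₀ hn hF i a
  refine limsup_eq_of_sub_tendsto (vseq_nonneg k n i L F a) (vseq_nonneg k n i L G a) hK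
    (tendsto_of_abs_le (C := C * n.factorial) (c := size a) (n' := n) fun m => ?_)
  obtain ⟨h1, h2⟩ := hC m
  rcases Nat.eq_zero_or_pos n with rfl | hn0
  · simp only [poly, zero_mul, mul_zero, add_zero] at h1 h2
    rw [vseq, vseq, le_antisymm h1 h2]; simp [poly]
  rcases Nat.eq_zero_or_pos m with rfl | hm
  · simp [zero_pow hn0.ne']; positivity
  have hm0 : (0 : ℝ) < (m : ℝ) ^ n := pow_pos (by exact_mod_cast hm) _
  have hp : (poly n (size (m • a)) : ℝ) ≤ (poly n (m * size a + size a) : ℝ) := by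
    rw [size_smul]; exact_mod_cast poly_mono n (Nat.le_add_right _ _)
  have g1 : (hN k L F i (m • a) : ℝ) ≤ (hN k L G i (m • a) : ℝ) + (C : ℝ) * (poly n (m * size a + size a) : ℝ) :=
    le_trans (by exact_mod_cast h1) (add_le_add_right (mul_le_mul_of_nonneg_left hp (Nat.cast_nonneg C)) _)
  have g2 : (hN k L G i (m • a) : ℝ) ≤ (hN k L F i (m • a) : ℝ) + (C : ℝ) * (poly n (m * size a + size a) : ℝ) :=
    le_trans (by exact_mod_cast h2) (add_le_add_right (mul_le_mul_of_nonneg_left hp (Nat.cast_nonneg C)) _)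
  have e : (vseq k n i L F a m - vseq k n i L G a m) =
      (((hN k L F i (m • a) : ℝ) - (hN k L G i (m • a) : ℝ)) * n.factorial) / (m : ℝ) ^ n := by
    rw [vseq, vseq]; ring
  rw [e, abs_div, abs_of_pos hm0, div_mul_cancel₀ _ hm0.ne', abs_mul, Nat.abs_cast, Nat.cast_mul, mul_right_comm]
  refine mul_le_mul_of_nonneg_right ?_ (Nat.cast_nonneg _)
  rw [abs_le]
  constructor <;> linarith

end Groth.Agent.AsympCoh
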