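import Groth.Agent.AsympCoh.GenFin

/-!
Cohomology along a generically finite morphism, up to lower order terms.
-/

set_option autoImplicit false
set_option linter.unusedSectionVars false
set_option linter.style.haveILetI false
set_option backward.isDefEq.respectTransparency false
set_option backward.isDefEq.respectTransparency.types false
set_option maxHeartbeats 1000000

universe u

open CategoryTheory CategoryTheory.Limits AlgebraicGeometry TopologicalSpace Filter Topology
open Groth.Agent.SiteCoh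

noncomputable section

namespace Groth.Agent.AsympCoh

attribute [local instance] Nakai.clMonoid

variable {X Y : Scheme.{u}} (k : Type u) [Field k] [X.Over (Spec (CommRingCat.of k))]
  [IsProper (X ↘ Spec (CommRingCat.of k))]

/-- Modules isomorphic at the generic point differ in lower order. -/
theorem compare_generic [IsIntegral X] {L₀ : X.Modules} (hL₀ : CohB1.IsAmple L₀) {n : ℕ}
    (hn : topologicalKrullDim X ≤ (n : WithBot ℕ∞)) {s : ℕ} {L : Fin s → X.Modules} (hL : ∀ j, PicF.IsInvertible (L j))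
    {F G : X.Modules} (hF : Coh.IsCoh F) (hG : Coh.IsCoh G) (φ : F ⟶ G)
    (hφ : IsIso ((DerSch.stalkFunctor X (genericPoint X)).map φ)) (i : ℕ) :
    ∃ C : ℕ, ∀ a : Fin s → ℕ, hN k L F i a ≤ hN k L G i a + C * poly n (size a) ∧
      hN k L G i a ≤ hN k L F i a + C * poly n (size a) := by
  haveI := CurveRR.isNoetherian_of_proper k X
  have hsupp : CohB1.support (Coh.structureModule X) = Set.univ := Set.eq_univ_of_forall fun x => by
    by_contra hx
    haveI := CurveRR.subsingleton_stalk hx
    haveI := CurveRR.nontrivial_stalk_inv (TMul.isInvertible_structureModule (X := X)) x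
    exact false_of_nontrivial_of_subsingleton ((Coh.structureModule X).presheaf.stalk x)
  refine compare k L hL hF hG φ (d := n) (fun P hP hPs => bdd_all k L hL hL₀ n P hP ?_) i
  refine CohBound.noChain_succ (hη k) (F := Coh.structureModule X) (Z := {genericPoint X})
      (U := ⟨(CohB1.support P)ᶜ, (Groth.Agent.QC.isClosed_support hP.2).isOpen_compl⟩)
      (fun x _ => hsupp ▸ trivial) (fun x hx hxU => hxU hx) (fun x _ => hsupp ▸ trivial)
      (fun x hx => ?_) (fun x _ => ⟨_, rfl, (genericPoint_spec X).specializes trivial⟩) (noCh_top k hn _)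
  obtain rfl : x = genericPoint X := hx
  exact fun h => (hPs _ h).2 hφ

/-- A coherent module and the free module of its rank differ in lower order. -/
theorem compare_rank [IsIntegral X] {L₀ : X.Modules} (hL₀ : CohB1.IsAmple L₀) {n : ℕ}
    (hn : topologicalKrullDim X ≤ (n : WithBot ℕ∞)) {F : X.Modules} (hF : Coh.IsCoh F) {r : ℕ}
    (hr : Module.finrank (X.presheaf.stalk (genericPoint X)) (F.presheaf.stalk (genericPoint X)) = r)
    {s : ℕ} {L : Fin s → X.Modules} (hL : ∀ j, PicF.IsInvertible (L j)) (i : ℕ) :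
    ∃ C : ℕ, ∀ a : Fin s → ℕ, hN k L F i a ≤ r * hN k L (Coh.structureModule X) i a + C * poly n (size a) ∧
      r * hN k L (Coh.structureModule X) i a ≤ hN k L F i a + C * poly n (size a) := by
  haveI := CurveRR.isNoetherian_of_proper k X
  have hO : Coh.IsCoh (Coh.structureModule X) := Nakai.isCoh_one k
  haveI : (Coh.structureModule X).IsQuasicoherent := Groth.Agent.QC.isQCoh_unit X
  haveI : F.IsQuasicoherent := hF.1
  obtain ⟨n₁, h₁⟩ := TMul.exists_forall_genOn hL₀ (F := F) hF.2
  obtain ⟨n₂, h₂⟩ := TMul.exists_forall_genOn hL₀ (F := Coh.structureModule X) hO.2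
  let Q := CohB1.tensorPow L₀ (max n₁ n₂)
  have hQ : PicF.IsInvertible Q := TMul.isInvertible_tensorPow hL₀.1 _
  obtain ⟨D, hD, hηD, hgen⟩ := h₁ (max n₁ n₂) (le_max_left _ _) (genericPoint X)
  obtain ⟨D', hD', hηD', hgen'⟩ := h₂ (max n₁ n₂) (le_max_right _ _) (genericPoint X)
  obtain ⟨σ, hσ⟩ := TMul.exists_mem_genLocus_of_genOn hQ hD' (hgen'.congr (TMul.leftUnitIso Q)) hηD'
  have hG : Coh.IsCoh (CohB1.tensorMod F Q) := CohFinite.isCoh_tensor hF hQ
  have hσi := CohBound.isIso_stalk_mulSec F σ hσ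
  obtain ⟨φ, hφ⟩ := exists_free_map hG hD hηD hgen
    (r := r) (by rw [← hr]; exact ((asIso ((DerSch.stalkFunctor X (genericPoint X)).map
      (CohBound.mulSec F σ))).toLinearEquiv.finrank_eq).symm)
  obtain ⟨C₁, hC₁⟩ := compare_generic k hL₀ hn hL hF hG (CohBound.mulSec F σ) hσi i
  obtain ⟨C₂, hC₂⟩ := compare_generic k hL₀ hn hL (isCoh_free k r) hG φ hφ i
  refine ⟨C₁ + C₂, fun a => ?_⟩
  have hu : hN k L (GenBasis.freeN X r) i a = r * hN k L (Coh.structureModule X) i a := by
    simp only [hN, h_tensor_free k (Intersect.isInvertible_N hL _) r i]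
  have a1 := hC₁ a
  have a2 := hC₂ a
  rw [hu] at a2
  rw [add_mul]
  constructor <;> omega

variable [Y.Over (Spec (CommRingCat.of k))] [IsProper (Y ↘ Spec (CommRingCat.of k))]

/-- Cohomology of powers along a generically finite morphism, up to lower order. -/
theorem compare_pull_deg [IsIntegral X] [IsIntegral Y] (f : Y ⟶ X) [IsProper f]
    (hf : f ≫ (X ↘ Spec (CommRingCat.of k)) = Y ↘ Spec (CommRingCat.of k))
    {A : X.Modules} (hA : CohB1.IsAmple A) {B : Y.Modules} (hB : CohB1.IsAmple B) {n : ℕ}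
    (hn : topologicalKrullDim X = (n : WithBot ℕ∞)) (hdom : f (genericPoint Y) = genericPoint X) {d : ℕ}
    (hd : f.residueDegree (genericPoint Y) = d) (hd0 : 1 ≤ d) {L : X.Modules} (hL : PicF.IsInvertible L) (i : ℕ) :
    ∃ C : ℕ, ∀ m : ℕ,
      CurveRR.h k (CohB1.tensorPow ((Scheme.Modules.pullback f).obj L) m) i ≤
        d * CurveRR.h k (CohB1.tensorPow L m) i + C * poly n m ∧
      d * CurveRR.h k (CohB1.tensorPow L m) i ≤
        CurveRR.h k (CohB1.tensorPow ((Scheme.Modules.pullback f).obj L) m) i + C * poly n m := by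
  haveI := CurveRR.isNoetherian_of_proper k X
  haveI := CurveRR.isNoetherian_of_proper k Y
  have hnY : topologicalKrullDim Y = (n : WithBot ℕ∞) := by
    rw [pdim_genericPoint (Y ↘ Spec (CommRingCat.of k)), ← WeilLib.pdim_eq_of_residueDegree_ne_zero
      (Y ↘ Spec (CommRingCat.of k)) f (X ↘ Spec (CommRingCat.of k)) hf (x := genericPoint Y) (by omega), hdom,
      ← pdim_genericPoint (X ↘ Spec (CommRingCat.of k)), hn]
  have hO : Coh.IsCoh (Coh.structureModule Y) := Nakai.isCoh_one k
  haveI : (Coh.structureModule Y).IsQuasicoherent := Groth.Agent.QC.isQCoh_unit Y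
  obtain ⟨n₁, h₁⟩ := exists_directAcyclic_twist f hB hL
  obtain ⟨n₂, h₂⟩ := TMul.exists_forall_genOn hB (F := Coh.structureModule Y) hO.2
  let G := CohB1.tensorPow B (max n₁ n₂)
  have hGi : PicF.IsInvertible G := TMul.isInvertible_tensorPow hB.1 _
  have hG : Coh.IsCoh G := ⟨TMul.isQCoh_of_isInvertible hGi, TMul.isFT_of_isInvertible hGi⟩
  obtain ⟨D, hD, hηD, hgen⟩ := h₂ (max n₁ n₂) (le_max_right _ _) (genericPoint Y)
  obtain ⟨σ, hσ⟩ := TMul.exists_mem_genLocus_of_genOn hGi hD (hgen.congr (TMul.leftUnitIso G)) hηD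
  have hfib : f ⁻¹' {f (genericPoint Y)} ∩ CohB1.support G ⊆ {genericPoint Y} := fun y hy => by
    refine (Intersect.eq_of_dim (X := Y) ((genericPoint_spec Y).specializes trivial)
      ((topologicalKrullDim_subspace_le Y _).trans hnY.le)
      (le_antisymm ((topologicalKrullDim_subspace_le Y _).trans hnY.le) ?_)).symm
    refine le_trans ?_ (Intersect.dim_image_le f isClosed_closure)
    rw [Intersect.image_closure f y, show f y = genericPoint X from hy.1.trans hdom,
        show closure ({genericPoint X} : Set X) = Set.univ from genericPoint_spec X,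
        IsHomeomorph.topologicalKrullDim_eq _ (Homeomorph.Set.univ X).isHomeomorph, hn]
  have hb := Intersect.pushStalk_bijective_of_fibre f f.isClosedMap G (Groth.Agent.QC.isClosed_support hG.2) _ hfib
  have hP := Intersect.isCoh_push' f hG
  have hr := (finrank_push_generic f hdom hGi hb).trans hd
  have hL' : ∀ j, PicF.IsInvertible ((![L] : Fin 1 → X.Modules) j) := fun j => by fin_cases j; exact hL
  have hLY : ∀ j, PicF.IsInvertible ((![(Scheme.Modules.pullback f).obj L] : Fin 1 → Y.Modules) j) := fun j => by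
    fin_cases j; exact PicLoc.isInvertible_pullback f hL
  obtain ⟨C₁, hC₁⟩ := compare_rank k hA hn.le hP hr hL' i
  have hσi := CohBound.isIso_stalk_mulSec (Coh.structureModule Y) σ hσ
  obtain ⟨C₂, hC₂⟩ := compare_generic k hB hnY.le hLY hO (CohFinite.isCoh_tensor hO hGi)
    (CohBound.mulSec (Coh.structureModule Y) σ) hσi i
  refine ⟨C₁ + C₂, fun m => ?_⟩
  obtain ⟨e⟩ := CohFinite.hh_push_linear k f hf _ (h₁ (max n₁ n₂) (le_max_left _ _) m) i
  obtain ⟨q⟩ := TMul.nonempty_pullPowIso f L m
  haveI := W7Hull.isIso_projMap_of_invertible f G (TMul.isInvertible_tensorPow hL m)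
  have hpow : ∀ {Z : Scheme.{u}} [Z.Over (Spec (CommRingCat.of k))] (P : Z.Modules),
      CurveRR.h k (CohB1.tensorPow P m) i = hN k ![P] (Coh.structureModule Z) i (m • ![1]) := fun P =>
    Nakai.h_congr k (by simp [Nakai.cl_tensor, Nakai.cl_pow, Nakai.cl_one, cl_N]) i
  have key : hN k ![L] ((Scheme.Modules.pushforward f).obj G) i (m • ![1]) =
      hN k ![(Scheme.Modules.pullback f).obj L] (CohB1.tensorMod (Coh.structureModule Y) G) i (m • ![1]) := by
    have s1 : CurveRR.h k (CohB1.tensorMod (CohB1.tensorMod (Coh.structureModule Y) G)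
        (Intersect.N ![(Scheme.Modules.pullback f).obj L] (m • ![1]))) i =
        CurveRR.h k (CohB1.tensorMod G ((Scheme.Modules.pullback f).obj (CohB1.tensorPow L m))) i := by
      refine Nakai.h_congr k ?_ i
      rw [Nakai.cl_tensor, Nakai.cl_tensor, Nakai.cl_tensor, cl_N, Fin.prod_univ_one,
        ← (PicGrp.cl_eq_cl_iff _ _).2 ⟨q⟩, show PicF.cl (Coh.structureModule Y) = 1 from rfl, one_mul]
      simp [Nakai.cl_pow]
    have s2 : CurveRR.h k (CohB1.tensorMod ((Scheme.Modules.pushforward f).obj G) (Intersect.N ![L] (m • ![1]))) i =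
        CurveRR.h k (CohB1.tensorMod ((Scheme.Modules.pushforward f).obj G) (CohB1.tensorPow L m)) i := by
      refine Nakai.h_congr k ?_ i
      rw [Nakai.cl_tensor, Nakai.cl_tensor, cl_N, Fin.prod_univ_one, Nakai.cl_pow]
      simp
    simp only [hN]
    rw [s1, s2, CurveRR.h_eq_of_iso (asIso (CohFinite.projMap f G (CohB1.tensorPow L m))) i]
    exact e.finrank_eq.symm
  have hs : size (m • (![1] : Fin 1 → ℕ)) = m := by rw [size_smul]; simp [size]
  have a1 := hC₁ (m • ![1])
  have a2 := hC₂ (m • ![1])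
  rw [hs] at a1 a2
  rw [← hpow, key] at a1
  rw [← hpow] at a2
  rw [add_mul]
  constructor <;> omega

end Groth.Agent.AsympCoh
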