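import Groth.Agent.AsympCoh.Apps
import Groth.Agent.GenBasis.Basic
import Groth.Agent.TMul.GlobGen
import Groth.Agent.RefStalk.Span
import Groth.Agent.RefStalk.Eval
import Groth.Agent.CurveRR.Tensor
import Groth.Agent.Horrocks.Main

/-!
A coherent module on an integral scheme has the asymptotic cohomology of the free module of its generic rank.
-/

set_option autoImplicit false
set_option linter.unusedSectionVars false
set_option linter.style.haveILetI false
set_option backward.isDefEq.respectTransparency false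
set_option backward.isDefEq.respectTransparency.types false
set_option maxHeartbeats 1000000

universe u

open CategoryTheory CategoryTheory.Limits AlgebraicGeometry TopologicalSpace Filter Topology
open Groth.Agent.WeakAssLib (mgerm mgerm_smul mgerm_res)
open Groth.Agent.CohFinite (tmap tmap_comp tmap_id hhMap)

noncomputable section

namespace Groth.Agent.AsympCoh

attribute [local instance] Nakai.clMonoid Abelian.hasFiniteBiproducts

variable {X : Scheme.{u}}

/-- Germs of global sections span the stalk. -/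
theorem span_mgerm_eq_top {G : X.Modules} (hG : Coh.IsQCoh G) {D : X.Opens} (hD : IsAffineOpen D) {x : X}
    (hx : x ∈ D) (hgen : TMul.GenOn G D) :
    Submodule.span (X.presheaf.stalk x) (Set.range fun t : Γ(G, ⊤) => mgerm G (show x ∈ (⊤ : X.Opens) from trivial) t) = ⊤ := by
  refine eq_top_iff.2 fun θ _ => ?_
  letI := Module.compHom (G.presheaf.stalk x) (X.presheaf.germ D x hx).hom
  obtain ⟨g, hg, hge⟩ := RefStalk.exists_loc hD hG hx
  obtain ⟨⟨s, a⟩, has⟩ := IsLocalizedModule.surj (hD.primeIdealOf ⟨x, hx⟩).asIdeal.primeCompl g θ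
  have hs : ∀ s : Γ(G, D), mgerm G hx s ∈ Submodule.span (X.presheaf.stalk x)
      (Set.range fun t : Γ(G, ⊤) => mgerm G (show x ∈ (⊤ : X.Opens) from trivial) t) := by
    intro s
    clear has hge
    have h : s ∈ Submodule.span Γ(X, D) (Set.range (Groth.Agent.QC.res G (le_top : D ≤ ⊤))) := hgen ▸ trivial
    induction h using Submodule.span_induction with
    | mem z hz =>
      obtain ⟨t, rfl⟩ := hz
      exact Submodule.subset_span ⟨t, (mgerm_res G (le_top : D ≤ ⊤) hx t).symm⟩
    | zero => rw [map_zero]; exact Submodule.zero_mem _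
    | add a b _ _ ha hb => rw [map_add]; exact Submodule.add_mem _ ha hb
    | smul c a _ ha => rw [mgerm_smul]; exact Submodule.smul_mem _ _ ha
  have hu : IsUnit (X.presheaf.germ D x hx a.1) := WeakAssLib.isUnit_germ hD hx a.2
  obtain ⟨v, hv⟩ := hu
  have e : θ = ((v⁻¹ : (X.presheaf.stalk x)ˣ) : X.presheaf.stalk x) • mgerm G hx s := by
    rw [← hge, ← has, Submonoid.smul_def]
    show θ = ((v⁻¹ : (X.presheaf.stalk x)ˣ) : X.presheaf.stalk x) • (X.presheaf.germ D x hx a.1 • θ)
    rw [← hv, ← smul_assoc, smul_eq_mul, Units.inv_mul, one_smul]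
  rw [e]
  exact Submodule.smul_mem _ _ (hs s)

/-- A morphism from the free module to a module generated by global sections near the generic point,
bijective at the generic point. -/
theorem exists_free_map [IsLocallyNoetherian X] [IsIntegral X] {G : X.Modules} (hG : Coh.IsCoh G) {D : X.Opens} (hD : IsAffineOpen D)
    (hη : genericPoint X ∈ D) (hgen : TMul.GenOn G D) {r : ℕ}
    (hr : Module.finrank (X.presheaf.stalk (genericPoint X)) (G.presheaf.stalk (genericPoint X)) = r) :
    ∃ φ : GenBasis.freeN X r ⟶ G, IsIso ((DerSch.stalkFunctor X (genericPoint X)).map φ) := by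
  classical
  letI : Field (X.presheaf.stalk (genericPoint X)) := inferInstanceAs (Field X.functionField)
  haveI := RegDual.finite_stalk hG (genericPoint X)
  have htop := span_mgerm_eq_top hG.1 hD hη hgen
  obtain ⟨f, hfs, hfspan, hfli⟩ := Submodule.exists_fun_fin_finrank_span_eq (X.presheaf.stalk (genericPoint X))
    (Set.range fun t : Γ(G, ⊤) => mgerm G (show genericPoint X ∈ (⊤ : X.Opens) from trivial) t)
  have hfspan := hfspan.trans htop
  have hcard : r = Module.finrank (X.presheaf.stalk (genericPoint X))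
      (Submodule.span (X.presheaf.stalk (genericPoint X))
        (Set.range fun t : Γ(G, ⊤) => mgerm G (show genericPoint X ∈ (⊤ : X.Opens) from trivial) t)) := by
    rw [htop, finrank_top, hr]
  obtain ⟨e, he1, he2, he3⟩ : ∃ e : ULift.{u} (Fin r) → G.presheaf.stalk (genericPoint X),
      (∀ i, ∃ t : Γ(G, ⊤), mgerm G (show genericPoint X ∈ (⊤ : X.Opens) from trivial) t = e i) ∧
      Submodule.span (X.presheaf.stalk (genericPoint X)) (Set.range e) = ⊤ ∧
      LinearIndependent (X.presheaf.stalk (genericPoint X)) e :=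
    ⟨fun i => f (Fin.cast hcard i.down), fun i => hfs _,
      (congrArg _ (Function.Surjective.range_comp
        (f := fun i : ULift.{u} (Fin r) => Fin.cast hcard i.down)
        (fun j => ⟨⟨Fin.cast hcard.symm j⟩, by simp⟩) f)).trans hfspan,
      hfli.comp _ fun i j h => by
        cases i; cases j; simpa using h⟩
  choose t ht using he1
  let φ : GenBasis.freeN X r ⟶ G := Sigma.desc fun i => GenBasis.homOfTop (t i)
  let l : (GenBasis.freeN X r).presheaf.stalk (genericPoint X) →ₗ[X.presheaf.stalk (genericPoint X)]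
      G.presheaf.stalk (genericPoint X) := ((DerSch.stalkFunctor X (genericPoint X)).map φ).hom
  have hl : ∀ (W : X.Opens) (hW : genericPoint X ∈ W) (c : ULift.{u} (Fin r) → Γ(X, W)),
      l (TopCat.Presheaf.germ (GenBasis.freeN X r).presheaf W _ hW (∑ i, (GenBasis.ιF X r i).app W (c i))) =
        ∑ i, X.presheaf.germ W _ hW (c i) • e i := fun W hW c => by
    change Algz.stalkMapAb φ (genericPoint X) _ = _
    erw [TopCat.Presheaf.stalkFunctor_map_germ_apply]
    change mgerm G hW (φ.app W _) = _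
    rw [map_sum, map_sum]
    refine Finset.sum_congr rfl fun i _ => ?_
    rw [show φ.app W ((GenBasis.ιF X r i).app W (c i)) = (GenBasis.homOfTop (t i)).app W (c i) from
        congrArg (fun ψ : Coh.structureModule X ⟶ G => ψ.app W (c i))
          (show GenBasis.ιF X r i ≫ φ = GenBasis.homOfTop (t i) from Sigma.ι_desc _ i),
      GenBasis.homOfTop_app, mgerm_smul, mgerm_res, ht]
  refine ⟨φ, (ConcreteCategory.isIso_iff_bijective _).2 ⟨?_, ?_⟩⟩
  · change Function.Injective l
    rw [injective_iff_map_eq_zero]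
    intro a ha
    obtain ⟨W, hW, c, rfl⟩ := GenBasis.exists_free_germ (Y := X) a
    rw [hl] at ha
    have hc := Fintype.linearIndependent_iff.1 he3 _ ha
    have hc0 : ∀ i, c i = 0 := fun i => GenBasis.germ_gen_injective (X := X) hW ((hc i).trans (map_zero _).symm)
    simp [hc0]
  · change Function.Surjective l
    rw [← LinearMap.range_eq_top, eq_top_iff, ← he2, Submodule.span_le]
    rintro _ ⟨j, rfl⟩
    refine ⟨TopCat.Presheaf.germ (GenBasis.freeN X r).presheaf ⊤ _ trivial
      (∑ i, (GenBasis.ιF X r i).app ⊤ ((fun i => if i = j then 1 else 0 : ULift.{u} (Fin r) → Γ(X, ⊤)) i)), ?_⟩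
    rw [hl _ _ (fun i => if i = j then 1 else 0), Finset.sum_eq_single j]
    · simp
    · intro i _ hi; simp [hi]
    · simp

theorem isCoh_power [IsLocallyNoetherian X] {A : X.Modules} (hA : Coh.IsCoh A) (d : ℕ) :
    Coh.IsCoh (∐ fun _ : Fin d => A) :=
  CohFinite.isCoh_of_iso (biproduct.isoCoproduct fun _ : Fin d => A) (Devissage.isCoh_biproduct _ fun _ => hA)

theorem isCoh_biprod2 [IsLocallyNoetherian X] {A B : X.Modules} (hA : Coh.IsCoh A) (hB : Coh.IsCoh B) :
    Coh.IsCoh (A ⊞ B) := by
  obtain ⟨e⟩ := Horrocks.nonempty_consIso A (fun _ : Fin 1 => B) (![A, B] : Fin 2 → X.Modules) rfl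
    (fun i => by fin_cases i; rfl)
  have h1 : Coh.IsCoh (∐ ![A, B]) := CohFinite.isCoh_of_iso (biproduct.isoCoproduct ![A, B])
    (Devissage.isCoh_biproduct _ fun i => by fin_cases i; exacts [hA, hB])
  exact CohFinite.isCoh_of_iso (e.symm ≪≫ biprod.mapIso (Iso.refl A) (coproductUniqueIso fun _ : Fin 1 => B)) h1

variable (k : Type u) [Field k] [X.Over (Spec (CommRingCat.of k))] [IsProper (X ↘ Spec (CommRingCat.of k))]

/-- The dimensions of the cohomology of a twisted biproduct. -/
theorem h_tensor_biprod {A B P : X.Modules} (hA : Coh.IsCoh A) (hB : Coh.IsCoh B) (hP : PicF.IsInvertible P) (i : ℕ) :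
    CurveRR.h k (CohB1.tensorMod (A ⊞ B) P) i =
      CurveRR.h k (CohB1.tensorMod A P) i + CurveRR.h k (CohB1.tensorMod B P) i := by
  haveI := CurveRR.isNoetherian_of_proper k X
  have hS := (ShortComplex.Splitting.ofHasBinaryBiproduct A B).shortExact
  have hT := CohFinite.shortExact_tmap hP hS
  have hAB : Coh.IsCoh (A ⊞ B) := isCoh_biprod2 hA hB
  haveI := CohFinite.finite_proper k X _ (CohFinite.isCoh_tensor hA hP) i
  haveI := CohFinite.finite_proper k X _ (CohFinite.isCoh_tensor hB hP) i
  haveI := CohFinite.finite_proper k X _ (CohFinite.isCoh_tensor hAB hP) i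
  have hsurj : Function.Surjective (hhMap k (tmap (biprod.snd : A ⊞ B ⟶ B) P) i) := fun x =>
    ⟨hhMap k (tmap (biprod.inr : B ⟶ A ⊞ B) P) i x, by
      rw [← CohFinite.hhMap_comp, ← tmap_comp, biprod.inr_snd, tmap_id, CohFinite.hhMap_id]⟩
  have hinj : Function.Injective (hhMap k (tmap (biprod.inl : A ⟶ A ⊞ B) P) i) := fun x y h => by
    have h' := congrArg (hhMap k (tmap (biprod.fst : A ⊞ B ⟶ A) P) i) h
    rwa [← CohFinite.hhMap_comp, ← CohFinite.hhMap_comp, ← tmap_comp, biprod.inl_fst, tmap_id,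
      CohFinite.hhMap_id, CohFinite.hhMap_id] at h'
  have h1 := LinearMap.finrank_range_add_finrank_ker (hhMap k (tmap (biprod.snd : A ⊞ B ⟶ B) P) i)
  rw [LinearMap.range_eq_top.2 hsurj, finrank_top,
    show LinearMap.ker (hhMap k (tmap (biprod.snd : A ⊞ B ⟶ B) P) i) =
      LinearMap.range (hhMap k (tmap (biprod.inl : A ⟶ A ⊞ B) P) i) from (CurveRR.range_f_eq_ker_g hT i).symm,
    LinearMap.finrank_range_of_inj hinj] at h1
  simp only [CurveRR.h]
  omega

/-- The dimensions of the cohomology of a twisted power. -/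
theorem h_tensor_power {A P : X.Modules} (hA : Coh.IsCoh A) (hP : PicF.IsInvertible P) (i : ℕ) :
    ∀ d : ℕ, CurveRR.h k (CohB1.tensorMod (∐ fun _ : Fin d => A) P) i = d * CurveRR.h k (CohB1.tensorMod A P) i := by
  haveI := CurveRR.isNoetherian_of_proper k X
  intro d
  induction d with
  | zero =>
    have hz : IsZero (∐ fun _ : Fin 0 => A) :=
      (IsZero.iff_id_eq_zero _).mpr (Sigma.hom_ext _ _ fun i => i.elim0)
    let Z := ∐ fun _ : Fin 0 => A
    have h2 := h_tensor_biprod k (isCoh_power hA 0) (isCoh_power hA 0) hP i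
    let e : Z ⊞ Z ≅ Z :=
      ((IsZero.iff_id_eq_zero _).2 (biprod.hom_ext' _ _ (hz.eq_of_src _ _) (hz.eq_of_src _ _))).iso hz
    have h3 : CurveRR.h k (CohB1.tensorMod (Z ⊞ Z) P) i = CurveRR.h k (CohB1.tensorMod Z P) i :=
      CurveRR.h_eq_of_iso (PicGrp.tensorModIso e (Iso.refl P)) i
    rw [zero_mul]
    show CurveRR.h k (CohB1.tensorMod Z P) i = 0
    change CurveRR.h k (CohB1.tensorMod (Z ⊞ Z) P) i = CurveRR.h k (CohB1.tensorMod Z P) i +
      CurveRR.h k (CohB1.tensorMod Z P) i at h2
    omega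
  | succ d ih =>
    obtain ⟨e⟩ := Horrocks.nonempty_consIso A (fun _ : Fin d => A) (fun _ : Fin (d + 1) => A) rfl fun _ => rfl
    rw [← CurveRR.h_eq_of_iso (PicGrp.tensorModIso e (Iso.refl P)) i,
      h_tensor_biprod k hA (isCoh_power hA d) hP i, ih]
    ring

/-- The free module of rank `r` as a coproduct over `Fin r`. -/
theorem h_tensor_free {P : X.Modules} (hP : PicF.IsInvertible P) (r i : ℕ) :
    CurveRR.h k (CohB1.tensorMod (GenBasis.freeN X r) P) i =
      r * CurveRR.h k (CohB1.tensorMod (Coh.structureModule X) P) i := by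
  let e : GenBasis.freeN X r ≅ ∐ fun _ : Fin r => Coh.structureModule X :=
    Sigma.whiskerEquiv (f := fun _ : ULift.{u} (Fin r) => Coh.structureModule X) (g := fun _ : Fin r => Coh.structureModule X) Equiv.ulift.{u} (fun _ => Iso.refl _)
  rw [CurveRR.h_eq_of_iso (PicGrp.tensorModIso e (Iso.refl P)) i,
    h_tensor_power k (Nakai.isCoh_one k) hP i r]

include k in
theorem isCoh_free (r : ℕ) : Coh.IsCoh (GenBasis.freeN X r) := by
  haveI := CurveRR.isNoetherian_of_proper k X
  exact CohFinite.isCoh_of_iso ((Sigma.whiskerEquiv (f := fun _ : ULift.{u} (Fin r) => Coh.structureModule X) (g := fun _ : Fin r => Coh.structureModule X) Equiv.ulift.{u} (fun _ => Iso.refl _) :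
    GenBasis.freeN X r ≅ ∐ fun _ : Fin r => Coh.structureModule X)).symm
    (isCoh_power (Nakai.isCoh_one k) r)

/-- The dimension of the twisted cohomology only depends on the stalk at the generic point, up to lower order. -/
theorem limsup_eq_of_generic_iso [IsIntegral X] {L₀ : X.Modules} (hL₀ : CohB1.IsAmple L₀) {n : ℕ}
    (hn : topologicalKrullDim X ≤ (n : WithBot ℕ∞)) {s : ℕ} {L : Fin s → X.Modules} (hL : ∀ j, PicF.IsInvertible (L j))
    {F G : X.Modules} (hF : Coh.IsCoh F) (hG : Coh.IsCoh G) (φ : F ⟶ G)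
    (hφ : IsIso ((DerSch.stalkFunctor X (genericPoint X)).map φ)) (i : ℕ) (a : Fin s → ℕ) :
    limsup (vseq k n i L F a) atTop = limsup (vseq k n i L G a) atTop := by
  haveI := CurveRR.isNoetherian_of_proper k X
  have hsupp : CohB1.support (Coh.structureModule X) = Set.univ := Set.eq_univ_of_forall fun x => by
    by_contra hx
    haveI := CurveRR.subsingleton_stalk hx
    haveI := CurveRR.nontrivial_stalk_inv (TMul.isInvertible_structureModule (X := X)) x
    exact false_of_nontrivial_of_subsingleton ((Coh.structureModule X).presheaf.stalk x)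
  have hc := compare k L hL hF hG φ (d := n) (fun P hP hPs => bdd_all k L hL hL₀ n P hP ?_) i
  · obtain ⟨C, hC⟩ := hc
    exact limsup_congr_of_close k hL hL₀ hn hF i a ⟨C, fun m => hC (m • a)⟩
  · refine CohBound.noChain_succ (hη k) (F := Coh.structureModule X) (Z := {genericPoint X})
      (U := ⟨(CohB1.support P)ᶜ, (Groth.Agent.QC.isClosed_support hP.2).isOpen_compl⟩)
      (fun x _ => hsupp ▸ trivial) (fun x hx hxU => hxU hx) (fun x _ => hsupp ▸ trivial)
      (fun x hx => ?_) (fun x _ => ⟨_, rfl, (genericPoint_spec X).specializes trivial⟩) (noCh_top k hn _)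
    obtain rfl : x = genericPoint X := hx
    exact fun h => (hPs _ h).2 hφ

/-- The asymptotic cohomology of a coherent module is that of the free module of its generic rank. -/
theorem hhatF_eq_rank_mul [IsIntegral X] {L₀ : X.Modules} (hL₀ : CohB1.IsAmple L₀) {n : ℕ}
    (hn : topologicalKrullDim X ≤ (n : WithBot ℕ∞)) {F : X.Modules} (hF : Coh.IsCoh F) {r : ℕ}
    (hr : Module.finrank (X.presheaf.stalk (genericPoint X)) (F.presheaf.stalk (genericPoint X)) = r)
    {L : X.Modules} (hL : PicF.IsInvertible L) (i : ℕ) :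
    W4c5asymptcohfn.hhatF k X n i F L = (r : ℝ) * W4c5asymptcohfn.hhat k X n i L := by
  haveI := CurveRR.isNoetherian_of_proper k X
  have hO : Coh.IsCoh (Coh.structureModule X) := Nakai.isCoh_one k
  haveI : (Coh.structureModule X).IsQuasicoherent := Groth.Agent.QC.isQCoh_unit X
  haveI : F.IsQuasicoherent := hF.1
  obtain ⟨n₁, h₁⟩ := TMul.exists_forall_genOn hL₀ (F := F) hF.2
  obtain ⟨n₂, h₂⟩ := TMul.exists_forall_genOn hL₀ (F := Coh.structureModule X) hO.2
  let Q := CohB1.tensorPow L₀ (max n₁ n₂)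
  have hQ : PicF.IsInvertible Q := TMul.isInvertible_tensorPow hL₀.1 _
  obtain ⟨D, hD, hηD, hgen⟩ := h₁ (max n₁ n₂) (le_max_left _ _) (genericPoint X)
  obtain ⟨D', hD', hηD', hgen'⟩ := h₂ (max n₁ n₂) (le_max_right _ _) (genericPoint X)
  obtain ⟨σ, hσ⟩ := TMul.exists_mem_genLocus_of_genOn hQ hD' (hgen'.congr (TMul.leftUnitIso Q)) hηD'
  have hG : Coh.IsCoh (CohB1.tensorMod F Q) := CohFinite.isCoh_tensor hF hQ
  have hσi := CohBound.isIso_stalk_mulSec F σ hσ
  obtain ⟨φ, hφ⟩ := exists_free_map hG hD hηD hgen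
    (r := r) (by rw [← hr]; exact ((asIso ((DerSch.stalkFunctor X (genericPoint X)).map
      (CohBound.mulSec F σ))).toLinearEquiv.finrank_eq).symm)
  have hL' : ∀ j, PicF.IsInvertible ((![L] : Fin 1 → X.Modules) j) := fun j => by fin_cases j; exact hL
  rw [hhatF_eq, hhat_eq k n i ![L] ![1] (P := L) (by simp [cl_N]),
    limsup_eq_of_generic_iso k hL₀ hn hL' hF hG (CohBound.mulSec F σ) hσi i ![1],
    ← limsup_eq_of_generic_iso k hL₀ hn hL' (isCoh_free k r) hG φ hφ i ![1]]
  have hu : vseq k n i ![L] (GenBasis.freeN X r) ![1] = fun m => (r : ℝ) * vseq k n i ![L] (Coh.structureModule X) ![1] m :=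
    funext fun m => by
      simp only [vseq, hN, h_tensor_free k (Intersect.isInvertible_N hL' _) r i, Nat.cast_mul]
      ring
  rw [hu]
  obtain ⟨K, hK⟩ := exists_vseq_bound k hL' hL₀ hn hO i ![1]
  exact ((monotone_mul_left_of_nonneg (Nat.cast_nonneg r)).map_limsup_of_continuousAt _
    (continuous_const_mul (r : ℝ)).continuousAt (isBoundedUnder_of_eventually_le hK)
    (isCoboundedUnder_le_of_le atTop (vseq_nonneg k n i _ _ _))).symm

end Groth.Agent.AsympCoh
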