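import Groth.Agent.AsympCoh.BaseLocus
import Groth.Agent.Nakai.UnifReg
import Groth.Agent.PicBdd.NumBdd
import Groth.Agent.S1576
import Groth.Agent.CurveRR.Deg
import Groth.Agent.NegTwist.Sections

/-!
Uniform bounds over classes of modules, and invariance of asymptotic cohomology under numerically trivial twists.
-/

set_option autoImplicit false
set_option linter.unusedSectionVars false
set_option linter.style.haveILetI false
set_option backward.isDefEq.respectTransparency false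
set_option backward.isDefEq.respectTransparency.types false
set_option maxHeartbeats 1000000

universe u

open CategoryTheory CategoryTheory.Limits AlgebraicGeometry TopologicalSpace Filter Topology
open Groth.Agent.QC (res)
open Groth.Agent.WeakAssLib (mgerm mgerm_res)
open Groth.Agent.CohFinite (tmap tmap_comp hhMap)

noncomputable section

namespace Groth.Agent.AsympCoh

attribute [local instance] Nakai.clMonoid

variable {X : Scheme.{u}}

/-- Multiplication by a section generating at the associated points is injective. -/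
theorem mono_mulSec [IsLocallyNoetherian X] {F M : X.Modules} (hF : Coh.IsQCoh F)
    (s : Coh.structureModule X ⟶ M) (hs : ∀ y, Curv2.IsAssPoint F y → y ∈ CohB1.genLocus M s) :
    Mono (CohBound.mulSec F s) := by
  refine (Groth.Agent.QC.mono_iff_app_injective _).2 fun W => (injective_iff_map_eq_zero _).2 fun c hc => ?_
  refine WeakAssLib.eq_zero_of_forall hF c fun y hy hwa => ?_
  haveI := CohBound.isIso_stalk_mulSec F s (hs y ((WeakAssLib.isAssPoint_iff _ y).2 hwa))
  refine (ConcreteCategory.bijective_of_isIso ((DerSch.stalkFunctor X y).map (CohBound.mulSec F s))).1 ?_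
  refine Eq.trans ?_ (map_zero _).symm
  show WeakAssLib.stalkHom (CohBound.mulSec F s) y (mgerm F hy c) = 0
  rw [WeakAssLib.stalkHom_germ, hc, map_zero]

variable (k : Type u) [Field k] [X.Over (Spec (CommRingCat.of k))] [IsProper (X ↘ Spec (CommRingCat.of k))]

/-- A class of modules with bounded cohomology in every invertible twist. -/
def Tame (𝒞 : Set X.Modules) : Prop :=
  ∀ (i : ℕ) (R : X.Modules), PicF.IsInvertible R → ∃ C : ℕ, ∀ F ∈ 𝒞, CurveRR.h k (CohB1.tensorMod F R) i ≤ C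

/-- The quotients by injections into twists. -/
def Cut (𝒞 : Set X.Modules) (M : X.Modules) : Set X.Modules :=
  {Q | ∃ S : ShortComplex X.Modules, S.ShortExact ∧ S.X₁ ∈ 𝒞 ∧ Coh.IsCoh S.X₁ ∧
    Nonempty (S.X₂ ≅ CohB1.tensorMod S.X₁ M) ∧ Coh.IsCoh S.X₃ ∧ S.X₃ = Q}

theorem tame_cut {𝒞 : Set X.Modules} (h : Tame k 𝒞) {M : X.Modules} (hM : PicF.IsInvertible M) :
    Tame k (Cut 𝒞 M) := fun i R hR => by
  haveI := CurveRR.isNoetherian_of_proper k X
  obtain ⟨C₁, h₁⟩ := h i (CohB1.tensorMod M R) (TMul.isInvertible_tensorMod hM hR)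
  obtain ⟨C₂, h₂⟩ := h (i + 1) R hR
  refine ⟨C₁ + C₂, ?_⟩
  rintro Q ⟨S, hS, h𝒞, hc₁, ⟨e⟩, hc₃, rfl⟩
  have hc₂ : Coh.IsCoh S.X₂ := CohFinite.isCoh_of_iso e.symm (CohFinite.isCoh_tensor hc₁ hM)
  have k₁ := (h_ineq k (CohFinite.shortExact_tmap hR hS) (CohFinite.isCoh_tensor hc₁ hR)
    (CohFinite.isCoh_tensor hc₂ hR) (CohFinite.isCoh_tensor hc₃ hR) i).2.1
  have q : CurveRR.h k (CohB1.tensorMod S.X₂ R) i = CurveRR.h k (CohB1.tensorMod S.X₁ (CohB1.tensorMod M R)) i := by
    rw [CurveRR.h_eq_of_iso (k := k) (PicGrp.tensorModIso e (Iso.refl R)) i]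
    exact Nakai.h_congr k (by simp only [Nakai.cl_tensor, mul_assoc]) i
  have := h₁ _ h𝒞
  have := h₂ _ h𝒞
  dsimp only at k₁
  omega

theorem tame_singleton (F : X.Modules) : Tame k {F} := fun i R _ =>
  ⟨CurveRR.h k (CohB1.tensorMod F R) i, fun G hG => by rw [Set.mem_singleton_iff.1 hG]⟩

/-- Finitely many sections generate a globally generated invertible module. -/
theorem exists_finite_sections [CompactSpace X] {P : X.Modules} (hP : PicF.IsInvertible P)
    (hg : Curv2.IsGloballyGenerated P) :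
    ∃ (N : ℕ) (t : Fin N → (Coh.structureModule X ⟶ P)), ∀ x, ∃ j, x ∈ CohB1.genLocus P (t j) := by
  classical
  choose t ht using Groth.Agent.S1664.gen_of_globallyGenerated hP hg
  obtain ⟨F, hF⟩ := isCompact_univ.elim_finite_subcover (fun x => (CohB1.genLocus _ (t x) : Set X))
    (fun x => (CohB1.genLocus _ (t x)).2) (fun x _ => Set.mem_iUnion.mpr ⟨x, ht x⟩)
  refine ⟨F.card, fun j => t (F.equivFin.symm j).1, fun x => ?_⟩
  obtain ⟨p, hp, hxp⟩ := Set.mem_iUnion₂.mp (hF (Set.mem_univ x))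
  refine ⟨F.equivFin ⟨p, hp⟩, ?_⟩
  simp only [Equiv.symm_apply_apply]
  exact hxp

/-- One cut of a module by a general section. -/
theorem exists_cut [Infinite k] {F M : X.Modules} (hF : Coh.IsCoh F) (hM : PicF.IsInvertible M) {N : ℕ}
    (t : Fin N → (Coh.structureModule X ⟶ M)) (ht : ∀ x, ∃ j, x ∈ CohB1.genLocus M (t j)) {e : ℕ}
    (he : NoCh k F (e + 1)) :
    ∃ S : ShortComplex X.Modules, S.ShortExact ∧ S.X₁ = F ∧ S.X₂ = CohB1.tensorMod F M ∧ Coh.IsCoh S.X₃ ∧
      NoCh k S.X₃ e := by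
  haveI := CurveRR.isNoetherian_of_proper k X
  obtain ⟨Z, hZf, hZ, hgen⟩ := CohBound.exists_max_points (Groth.Agent.QC.isClosed_support hF.2)
  have hfin : {x : X | x ∈ (⊤ : X.Opens) ∧ Curv2.IsAssPoint F x}.Finite :=
    Groth.Agent.S1576.result X F hF ⊤ isCompact_univ
  obtain ⟨s, hs⟩ := exists_section_avoid k hM t (hfin.union hZf) (fun w _ => ht w)
  haveI := mono_mulSec hF.1 s fun y hy => hs (Or.inl ⟨trivial, hy⟩)
  have hG := CohFinite.isCoh_tensor hF hM
  let S := ShortComplex.mk (CohBound.mulSec F s) (cokernel.π _) (cokernel.condition _)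
  have hQ : Coh.IsCoh S.X₃ := Groth.Agent.QC.isCoh_cokernel hF.1 hG _
  refine ⟨S, { exact := ShortComplex.exact_of_g_is_cokernel _ (cokernelIsCokernel _) }, rfl, rfl, hQ, ?_⟩
  refine CohBound.noChain_succ (hη k) (F := F) (Z := Z) (U := CohB1.genLocus M s) (fun x hx => ?_)
    (fun x hx hxU => ?_) hZ (fun z hz => hs (Or.inr hz)) hgen he
  · refine (CohBound.support_tensor_invertible hF hM).le (fun h => hx ?_)
    haveI : Subsingleton ↑((DerSch.stalkFunctor X x).obj (((KFlat.schB X).obj F).obj M)) := h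
    exact ((ModuleCat.epi_iff_surjective _).1
      (Functor.map_epi (DerSch.stalkFunctor X x) (cokernel.π (CohBound.mulSec F s)))).subsingleton
  · haveI := CohBound.isIso_stalk_mulSec F s hxU
    exact CurveRR.notMem_support_coker _ x
      (ConcreteCategory.bijective_of_isIso ((DerSch.stalkFunctor X x).map (CohBound.mulSec F s))).2 hx

/-- The uniform polynomial bound. -/
theorem bdd_tame [Infinite k] {A₀ : X.Modules} (hA₀ : CohB1.IsAmple A₀) {L : X.Modules} (hL : PicF.IsInvertible L) :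
    ∀ (e : ℕ) (𝒞 : Set X.Modules), (∀ F ∈ 𝒞, Coh.IsCoh F ∧ NoCh k F e) → Tame k 𝒞 →
      ∀ (i : ℕ) (R : X.Modules), PicF.IsInvertible R → ∃ C : ℕ, ∀ F ∈ 𝒞, ∀ m : ℕ,
        CurveRR.h k (CohB1.tensorMod F (CohB1.tensorMod R (CohB1.tensorPow L m))) i ≤ C * poly e m
  | 0, 𝒞, h𝒞, _, i, R, hR => ⟨0, fun F hF m => by
      rw [h_zero_of_noCh_zero k (h𝒞 F hF).1 (h𝒞 F hF).2]
      exact Nat.zero_le _⟩
  | e + 1, 𝒞, h𝒞, hT, i, R, hR => by
    haveI := CurveRR.isNoetherian_of_proper k X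
    have hO : Coh.IsCoh (Coh.structureModule X) := Nakai.isCoh_one k
    haveI : (Coh.structureModule X).IsQuasicoherent := hO.1
    haveI : L.IsQuasicoherent := TMul.isQCoh_of_isInvertible hL
    obtain ⟨n₁, g₁⟩ := TMul.eventually_isGloballyGenerated hA₀ (F := L) (TMul.isFT_of_isInvertible hL)
    obtain ⟨n₂, g₂⟩ := TMul.eventually_isGloballyGenerated hA₀ (F := Coh.structureModule X) hO.2
    let Q := CohB1.tensorPow A₀ (max n₁ n₂)
    have hQ : PicF.IsInvertible Q := TMul.isInvertible_tensorPow hA₀.1 _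
    have hM₁ : PicF.IsInvertible (CohB1.tensorMod L Q) := TMul.isInvertible_tensorMod hL hQ
    obtain ⟨N₁, t₁, ht₁⟩ := exists_finite_sections hM₁ (g₁ _ (le_max_left _ _))
    obtain ⟨N₂, t₂, ht₂⟩ := exists_finite_sections hQ
      (Nakai.isGloballyGenerated_of_cl (by rw [Nakai.cl_tensor, show PicF.cl (Coh.structureModule X) = 1 from rfl,
        one_mul]) (g₂ _ (le_max_right n₁ n₂)))
    obtain ⟨C₁, hC₁⟩ := bdd_tame hA₀ hL e {Q' | Q' ∈ Cut 𝒞 (CohB1.tensorMod L Q) ∧ NoCh k Q' e}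
      (fun F hF => ⟨(let ⟨_, _, _, _, _, hc, he⟩ := hF.1; he ▸ hc), hF.2⟩)
      (fun i R hR => let ⟨C, hC⟩ := tame_cut k hT hM₁ i R hR; ⟨C, fun F hF => hC F hF.1⟩) i R hR
    obtain ⟨C₂, hC₂⟩ := bdd_tame hA₀ hL e {Q' | Q' ∈ Cut 𝒞 Q ∧ NoCh k Q' e}
      (fun F hF => ⟨(let ⟨_, _, _, _, _, hc, he⟩ := hF.1; he ▸ hc), hF.2⟩)
      (fun i R hR => let ⟨C, hC⟩ := tame_cut k hT hQ i R hR; ⟨C, fun F hF => hC F hF.1⟩) (i - 1)
      (CohB1.tensorMod R L) (TMul.isInvertible_tensorMod hR hL)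
    obtain ⟨C₀, hC₀⟩ := hT i R hR
    refine ⟨C₀ + (C₁ + C₂), fun F hF m => ?_⟩
    obtain ⟨hFc, hFe⟩ := h𝒞 F hF
    obtain ⟨S₁, hS₁, eX₁, eX₂, hQ₁, hQ₁e⟩ := exists_cut k hFc hM₁ t₁ ht₁ hFe
    obtain ⟨S₂, hS₂, fX₁, fX₂, hQ₂, hQ₂e⟩ := exists_cut k hFc hQ t₂ ht₂ hFe
    have m₁ : S₁.X₃ ∈ Cut 𝒞 (CohB1.tensorMod L Q) := ⟨S₁, hS₁, eX₁.symm ▸ hF, eX₁.symm ▸ hFc,
      ⟨eqToIso (by rw [eX₁, eX₂])⟩, hQ₁, rfl⟩
    have m₂ : S₂.X₃ ∈ Cut 𝒞 Q := ⟨S₂, hS₂, fX₁.symm ▸ hF, fX₁.symm ▸ hFc,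
      ⟨eqToIso (by rw [fX₁, fX₂])⟩, hQ₂, rfl⟩
    have step : ∀ m, CurveRR.h k (CohB1.tensorMod F (CohB1.tensorMod R (CohB1.tensorPow L (m + 1)))) i ≤
        CurveRR.h k (CohB1.tensorMod F (CohB1.tensorMod R (CohB1.tensorPow L m))) i +
          (C₁ + C₂) * (e * (m + 1) ^ (e - 1)) := fun m => by
      have hP := TMul.isInvertible_tensorMod hR (TMul.isInvertible_tensorPow hL m)
      have hP' := TMul.isInvertible_tensorMod (TMul.isInvertible_tensorMod hR hL) (TMul.isInvertible_tensorPow hL m)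
      have hc : ∀ (M : X.Modules), PicF.IsInvertible M → ∀ {T : X.Modules}, T = CohB1.tensorMod F M → Coh.IsCoh T :=
        fun M hM T hT => hT ▸ CohFinite.isCoh_tensor hFc hM
      have k₁ := (h_ineq k (CohFinite.shortExact_tmap hP hS₁) (CohFinite.isCoh_tensor (eX₁.symm ▸ hFc) hP)
        (CohFinite.isCoh_tensor (hc _ hM₁ eX₂) hP) (CohFinite.isCoh_tensor hQ₁ hP) i).1
      have k₂ := (h_ineq k (CohFinite.shortExact_tmap hP' hS₂) (CohFinite.isCoh_tensor (fX₁.symm ▸ hFc) hP')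
        (CohFinite.isCoh_tensor (hc _ hQ fX₂) hP') (CohFinite.isCoh_tensor hQ₂ hP') i).2.2
      dsimp only at k₁ k₂
      rw [eX₁, eX₂] at k₁
      rw [fX₁, fX₂] at k₂
      have q₁ : CurveRR.h k (CohB1.tensorMod (CohB1.tensorMod F (CohB1.tensorMod L Q))
          (CohB1.tensorMod R (CohB1.tensorPow L m))) i = CurveRR.h k (CohB1.tensorMod (CohB1.tensorMod F Q)
          (CohB1.tensorMod (CohB1.tensorMod R L) (CohB1.tensorPow L m))) i :=
        Nakai.h_congr k (by simp only [Nakai.cl_tensor]; ac_rfl) i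
      have q₂ : CurveRR.h k (CohB1.tensorMod F (CohB1.tensorMod (CohB1.tensorMod R L) (CohB1.tensorPow L m))) i =
          CurveRR.h k (CohB1.tensorMod F (CohB1.tensorMod R (CohB1.tensorPow L (m + 1)))) i :=
        Nakai.h_congr k (by simp only [Nakai.cl_tensor, Nakai.cl_pow, pow_succ']; ac_rfl) i
      have a1 := hC₁ _ ⟨m₁, hQ₁e⟩ m
      have a2 := hC₂ _ ⟨m₂, hQ₂e⟩ m
      simp only [poly] at a1 a2
      rw [add_mul]
      omega
    refine (CohBound.sum_step (a := fun m => CurveRR.h k (CohB1.tensorMod F (CohB1.tensorMod R (CohB1.tensorPow L m))) i)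
      step m).trans ?_
    have h0 : CurveRR.h k (CohB1.tensorMod F (CohB1.tensorMod R (CohB1.tensorPow L 0))) i ≤ C₀ := by
      refine le_of_eq_of_le (Nakai.h_congr k ?_ i) (hC₀ F hF)
      simp [Nakai.cl_tensor, Nakai.cl_pow]
    rw [poly, Nat.add_sub_cancel]
    exact Nat.mul_le_mul_right _ (by omega)

/-- The middle of a composite injection. -/
theorem h_le_of_comp {A B C : X.Modules} (f : A ⟶ B) (g : B ⟶ C) [Mono (f ≫ g)] (hA : Coh.IsCoh A)
    (hB : Coh.IsCoh B) (hC : Coh.IsCoh C) {R : X.Modules} (hR : PicF.IsInvertible R) (i : ℕ) :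
    CurveRR.h k (CohB1.tensorMod C R) i ≤
      CurveRR.h k (CohB1.tensorMod B R) i + CurveRR.h k (CohB1.tensorMod (cokernel (f ≫ g)) R) i := by
  haveI := CurveRR.isNoetherian_of_proper k X
  let S := ShortComplex.mk (f ≫ g) (cokernel.π _) (cokernel.condition _)
  have hS : S.ShortExact := { exact := ShortComplex.exact_of_g_is_cokernel _ (cokernelIsCokernel _) }
  have hQ : Coh.IsCoh S.X₃ := Groth.Agent.QC.isCoh_cokernel hA.1 hC _
  have hT := CohFinite.shortExact_tmap hR hS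
  haveI := CohFinite.finite_proper k X _ (CohFinite.isCoh_tensor hB hR) i
  haveI := CohFinite.finite_proper k X _ (CohFinite.isCoh_tensor hC hR) i
  haveI := CohFinite.finite_proper k X _ (CohFinite.isCoh_tensor hQ hR) i
  have h1 := LinearMap.finrank_range_add_finrank_ker (hhMap k (tmap S.g R) i)
  have h2 : Module.finrank k (LinearMap.range (hhMap k (tmap S.g R) i)) ≤
      Module.finrank k (Coh.HH X (CohB1.tensorMod S.X₃ R) i) := Submodule.finrank_le _
  have h3 : LinearMap.ker (hhMap k (tmap S.g R) i) ≤ LinearMap.range (hhMap k (tmap g R) i) := by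
    rw [show LinearMap.ker (hhMap k (tmap S.g R) i) = LinearMap.range (hhMap k (tmap S.f R) i) from
      (CurveRR.range_f_eq_ker_g hT i).symm]
    rintro _ ⟨x, rfl⟩
    exact ⟨hhMap k (tmap f R) i x, by rw [← CohFinite.hhMap_comp, ← tmap_comp]⟩
  have h4 := (Submodule.finrank_mono h3).trans (LinearMap.finrank_range_le _)
  simp only [CurveRR.h]
  change Module.finrank k (LinearMap.range (hhMap k (tmap S.g R) i)) +
    Module.finrank k (LinearMap.ker (hhMap k (tmap S.g R) i)) =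
      Module.finrank k (Coh.HH X (CohB1.tensorMod C R) i) at h1
  change _ ≤ Module.finrank k (Coh.HH X (CohB1.tensorMod (cokernel (f ≫ g)) R) i) at h2
  omega

/-- Numerically trivial twists do not lower the cohomology of powers much. -/
theorem exists_le_twist [Infinite k] [IsIntegral X] {A₀ : X.Modules} (hA₀ : CohB1.IsAmple A₀) {n : ℕ}
    (hn : topologicalKrullDim X ≤ (n : WithBot ℕ∞)) {L : X.Modules} (hL : PicF.IsInvertible L) (i : ℕ) :
    ∃ C : ℕ, ∀ N : X.Modules, PicF.IsInvertible N → Nakai.DegFlat k N → ∀ m : ℕ,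
      CurveRR.h k (CohB1.tensorPow L m) i ≤
        CurveRR.h k (CohB1.tensorMod (CohB1.tensorPow L m) N) i + C * poly n m := by
  classical
  haveI := CurveRR.isNoetherian_of_proper k X
  have hO : Coh.IsCoh (Coh.structureModule X) := Nakai.isCoh_one k
  letI : Field (X.presheaf.stalk (genericPoint X)) := inferInstanceAs (Field X.functionField)
  obtain ⟨r, d, ι, hd, hι, hιc, ⟨eι⟩⟩ :=
    AmpleEmb.exists_closedImmersion_projSpace (X ↘ Spec (CommRingCat.of k)) hA₀
  haveI := hιc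
  obtain ⟨a, ha⟩ := Nakai.exists_generated_flat k ι hι hO
  let T := (Scheme.Modules.pullback ι).obj (Twist.twistProjSpace r k 1)
  have hTi : PicF.IsInvertible T := PicLoc.isInvertible_pullback ι (CohFinite.isInvertible_twist r k 1)
  let H := CohB1.tensorPow T a
  have hH : PicF.IsInvertible H := TMul.isInvertible_tensorPow hTi a
  obtain ⟨H', hH', hHH'⟩ := W7Hull.exists_tensor_inverse hH
  have gen : ∀ N : X.Modules, PicF.IsInvertible N → Nakai.DegFlat k N →
      ∃ t : Coh.structureModule X ⟶ CohB1.tensorMod H N, genericPoint X ∈ CohB1.genLocus _ t := fun N hN hf => by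
    refine Groth.Agent.S1664.gen_of_globallyGenerated (TMul.isInvertible_tensorMod hH hN)
      (Nakai.isGloballyGenerated_of_cl ?_ (ha a le_rfl N hN hf)) (genericPoint X)
    rw [Nakai.cl_twistOn, Nakai.cl_tensor, Nakai.cl_tensor, show PicF.cl (Coh.structureModule X) = 1 from rfl,
      one_mul, Nakai.cl_pow, mul_comm]
  let M := CohB1.tensorMod H H
  have hM : PicF.IsInvertible M := TMul.isInvertible_tensorMod hH hH
  let 𝒞₁ : Set X.Modules := {Q | Q ∈ Cut {Coh.structureModule X} M ∧ NoCh k Q n}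
  let 𝒞₂ : Set X.Modules := {Q | Q ∈ Cut {Coh.structureModule X} H ∧ NoCh k Q n}
  obtain ⟨C₁, hC₁⟩ := bdd_tame k hA₀ hL n 𝒞₁
    (fun F hF => ⟨(let ⟨_, _, _, _, _, hc, he⟩ := hF.1; he ▸ hc), hF.2⟩)
    (fun i R hR => let ⟨C, hC⟩ := tame_cut k (tame_singleton k _) hM i R hR; ⟨C, fun F hF => hC F hF.1⟩)
    i H' hH'
  obtain ⟨C₂, hC₂⟩ := bdd_tame k hA₀ hL n 𝒞₂
    (fun F hF => ⟨(let ⟨_, _, _, _, _, hc, he⟩ := hF.1; he ▸ hc), hF.2⟩)
    (fun i R hR => let ⟨C, hC⟩ := tame_cut k (tame_singleton k _) hH i R hR; ⟨C, fun F hF => hC F hF.1⟩)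
    (i - 1) (Coh.structureModule X) TMul.isInvertible_structureModule
  have small : ∀ {P : X.Modules}, PicF.IsInvertible P → ∀ u : Coh.structureModule X ⟶ P,
      IsIso ((DerSch.stalkFunctor X (genericPoint X)).map u) →
      Mono u ∧ Coh.IsCoh (cokernel u) ∧ NoCh k (cokernel u) n := fun {P} hP u hu => by
    have hbij := ConcreteCategory.bijective_of_isIso ((DerSch.stalkFunctor X (genericPoint X)).map u)
    haveI := CurveRR.nontrivial_stalk_inv hP (genericPoint X)
    have hu0 : u ≠ 0 := fun h0 => by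
      obtain ⟨y, hy⟩ := exists_ne (0 : P.presheaf.stalk (genericPoint X))
      obtain ⟨x, hx⟩ := hbij.2 y
      refine hy (hx.symm.trans ?_)
      rw [h0, Functor.map_zero]
      rfl
    refine ⟨CurveRR.mono_of_ne_zero TMul.isInvertible_structureModule hP u hu0, Nakai.isCoh_coker k hP u, ?_⟩
    refine CohBound.noChain_succ (hη k) (F := Coh.structureModule X) (Z := {genericPoint X})
      (U := ⟨(CohB1.support (cokernel u))ᶜ,
        (Groth.Agent.QC.isClosed_support (Nakai.isCoh_coker k hP u).2).isOpen_compl⟩)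
      (fun x _ h => ?_) (fun x hx hxU => hxU hx) (fun x _ h => ?_) (fun x hx => ?_)
      (fun x _ => ⟨_, rfl, (genericPoint_spec X).specializes trivial⟩) (noCh_top k hn _)
    · haveI := CurveRR.nontrivial_stalk_inv (TMul.isInvertible_structureModule (X := X)) x
      haveI : Subsingleton ((Coh.structureModule X).presheaf.stalk x) := h
      exact false_of_nontrivial_of_subsingleton ((Coh.structureModule X).presheaf.stalk x)
    · haveI := CurveRR.nontrivial_stalk_inv (TMul.isInvertible_structureModule (X := X)) x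
      haveI : Subsingleton ((Coh.structureModule X).presheaf.stalk x) := h
      exact false_of_nontrivial_of_subsingleton ((Coh.structureModule X).presheaf.stalk x)
    · obtain rfl : x = genericPoint X := hx
      exact CurveRR.notMem_support_coker u _ hbij.2
  obtain ⟨t₀, ht₀⟩ := gen _ TMul.isInvertible_structureModule (Nakai.degFlat_one k)
  obtain ⟨eH⟩ : Nonempty (CohB1.tensorMod H (Coh.structureModule X) ≅ H) := ⟨CohBound.unitR H⟩
  let u₀ : Coh.structureModule X ⟶ H := t₀ ≫ eH.hom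
  have hu₀ : IsIso ((DerSch.stalkFunctor X (genericPoint X)).map u₀) := by
    haveI := Intersect.isIso_stalk_of_mem_genLocus t₀ ht₀
    rw [Functor.map_comp]
    infer_instance
  obtain ⟨hm₀, hQ₀, hQ₀e⟩ := small hH u₀ hu₀
  haveI := hm₀
  refine ⟨C₁ + C₂, fun N hN hf m => ?_⟩
  obtain ⟨N', hN', hNN'⟩ := W7Hull.exists_tensor_inverse hN
  obtain ⟨t, ht⟩ := gen N hN hf
  obtain ⟨t', ht'⟩ := gen N' hN' (Nakai.DegFlat.inverse k hf hN' hNN')
  obtain ⟨eM⟩ : Nonempty (CohB1.tensorMod (CohB1.tensorMod H N) (CohB1.tensorMod H N') ≅ M) := by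
    refine Nakai.iso_of_cl ?_
    rw [Nakai.cl_tensor, Nakai.cl_tensor, Nakai.cl_tensor, Nakai.cl_tensor,
      mul_mul_mul_comm, Nakai.cl_inv hNN', mul_one]
  let g : CohB1.tensorMod H N ⟶ M := CohBound.mulSec (CohB1.tensorMod H N) t' ≫ eM.hom
  have hu : IsIso ((DerSch.stalkFunctor X (genericPoint X)).map (t ≫ g)) := by
    haveI := Intersect.isIso_stalk_of_mem_genLocus t ht
    haveI := CohBound.isIso_stalk_mulSec (CohB1.tensorMod H N) t' ht'
    simp only [g, Functor.map_comp]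
    infer_instance
  obtain ⟨hmu, hQu, hQue⟩ := small hM _ hu
  haveI := hmu
  have hHN := TMul.isInvertible_tensorMod hH hN
  have hLm := TMul.isInvertible_tensorPow hL m
  have hR := TMul.isInvertible_tensorMod hH' hLm
  have hR₀ := TMul.isInvertible_tensorMod (TMul.isInvertible_structureModule (X := X)) hLm
  have k₁ := h_le_of_comp k t g hO ⟨TMul.isQCoh_of_isInvertible hHN, TMul.isFT_of_isInvertible hHN⟩
    ⟨TMul.isQCoh_of_isInvertible hM, TMul.isFT_of_isInvertible hM⟩ hR i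
  have hS₀ : (ShortComplex.mk u₀ (cokernel.π u₀) (cokernel.condition u₀)).ShortExact :=
    { exact := ShortComplex.exact_of_g_is_cokernel _ (cokernelIsCokernel _) }
  have k₀ := (h_ineq k (CohFinite.shortExact_tmap hR₀ hS₀) (CohFinite.isCoh_tensor hO hR₀)
    (CohFinite.isCoh_tensor ⟨TMul.isQCoh_of_isInvertible hH, TMul.isFT_of_isInvertible hH⟩ hR₀)
    (CohFinite.isCoh_tensor hQ₀ hR₀) i).2.2
  dsimp only at k₀
  have a₁ := hC₁ (cokernel (t ≫ g)) ⟨⟨ShortComplex.mk (t ≫ g) (cokernel.π _) (cokernel.condition _),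
    { exact := ShortComplex.exact_of_g_is_cokernel _ (cokernelIsCokernel _) }, rfl, hO,
    ⟨(TMul.leftUnitIso M).symm⟩, hQu, rfl⟩, hQue⟩ m
  have a₂ := hC₂ (cokernel u₀) ⟨⟨_, hS₀, rfl, hO, ⟨(TMul.leftUnitIso H).symm⟩, hQ₀, rfl⟩, hQ₀e⟩ m
  have hh := Nakai.cl_inv hHH'
  have q₁ : CurveRR.h k (CohB1.tensorMod M (CohB1.tensorMod H' (CohB1.tensorPow L m))) i =
      CurveRR.h k (CohB1.tensorMod H (CohB1.tensorMod (Coh.structureModule X) (CohB1.tensorPow L m))) i := by
    refine Nakai.h_congr k ?_ i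
    simp only [M, Nakai.cl_tensor]
    rw [show PicF.cl (Coh.structureModule X) = 1 from rfl, one_mul, mul_assoc, ← mul_assoc (PicF.cl H) (PicF.cl H'),
      hh, one_mul]
  have q₂ : CurveRR.h k (CohB1.tensorMod (CohB1.tensorMod H N) (CohB1.tensorMod H' (CohB1.tensorPow L m))) i =
      CurveRR.h k (CohB1.tensorMod (CohB1.tensorPow L m) N) i := by
    refine Nakai.h_congr k ?_ i
    rw [Nakai.cl_tensor, Nakai.cl_tensor, Nakai.cl_tensor, Nakai.cl_tensor, mul_mul_mul_comm, hh, one_mul, mul_comm]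
  have q₀ : CurveRR.h k (CohB1.tensorMod (Coh.structureModule X) (CohB1.tensorMod (Coh.structureModule X)
      (CohB1.tensorPow L m))) i = CurveRR.h k (CohB1.tensorPow L m) i := by
    refine Nakai.h_congr k ?_ i
    rw [Nakai.cl_tensor, Nakai.cl_tensor, show PicF.cl (Coh.structureModule X) = 1 from rfl, one_mul, one_mul]
  rw [add_mul]
  omega

/-- Numerically trivial twists do not change the asymptotic cohomology. -/
theorem hhat_tensor_num [Infinite k] [IsIntegral X] {A₀ : X.Modules} (hA₀ : CohB1.IsAmple A₀) {n : ℕ}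
    (hn : topologicalKrullDim X ≤ (n : WithBot ℕ∞)) {L P : X.Modules} (hL : PicF.IsInvertible L)
    (hP : PicF.IsInvertible P) (hf : Nakai.DegFlat k P) (i : ℕ) :
    W4c5asymptcohfn.hhat k X n i (CohB1.tensorMod L P) = W4c5asymptcohfn.hhat k X n i L := by
  haveI := CurveRR.isNoetherian_of_proper k X
  have hO : Coh.IsCoh (Coh.structureModule X) := Nakai.isCoh_one k
  obtain ⟨P', hP', hPP'⟩ := W7Hull.exists_tensor_inverse hP
  have hf' : Nakai.DegFlat k P' := Nakai.DegFlat.inverse k hf hP' hPP'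
  have hLP := TMul.isInvertible_tensorMod hL hP
  obtain ⟨C, hC⟩ := exists_le_twist k hA₀ hn hL i
  obtain ⟨C', hC'⟩ := exists_le_twist k hA₀ hn hLP i
  have hL₂ : ∀ j, PicF.IsInvertible ((![L, CohB1.tensorMod L P] : Fin 2 → X.Modules) j) := fun j => by
    fin_cases j
    · exact hL
    · exact hLP
  rw [hhat_eq k n i ![L, CohB1.tensorMod L P] ![0, 1] (P := CohB1.tensorMod L P) (by simp [cl_N, Fin.prod_univ_two]),
    hhat_eq k n i ![L, CohB1.tensorMod L P] ![1, 0] (P := L) (by simp [cl_N, Fin.prod_univ_two])]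
  have hh : ∀ m : ℕ, hN k ![L, CohB1.tensorMod L P] (Coh.structureModule X) i (m • ![1, 0]) =
      CurveRR.h k (CohB1.tensorPow L m) i ∧ hN k ![L, CohB1.tensorMod L P] (Coh.structureModule X) i (m • ![0, 1]) =
      CurveRR.h k (CohB1.tensorPow (CohB1.tensorMod L P) m) i := fun m => by
    constructor <;>
    · refine Nakai.h_congr k ?_ i
      rw [Nakai.cl_tensor, show PicF.cl (Coh.structureModule X) = 1 from rfl, one_mul, cl_N, Fin.prod_univ_two,
        Nakai.cl_pow]
      simp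
  have close : ∀ m : ℕ, CurveRR.h k (CohB1.tensorPow L m) i ≤ CurveRR.h k (CohB1.tensorPow (CohB1.tensorMod L P) m) i +
      C * poly n m ∧ CurveRR.h k (CohB1.tensorPow (CohB1.tensorMod L P) m) i ≤ CurveRR.h k (CohB1.tensorPow L m) i +
      C' * poly n m := fun m => by
    refine ⟨(hC _ (TMul.isInvertible_tensorPow hP m) (Nakai.DegFlat.pow k hf hP m) m).trans (le_of_eq ?_),
      (hC' _ (TMul.isInvertible_tensorPow hP' m) (Nakai.DegFlat.pow k hf' hP' m) m).trans (le_of_eq ?_)⟩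
    · congr 1
      refine Nakai.h_congr k ?_ i
      rw [Nakai.cl_tensor, Nakai.cl_pow, Nakai.cl_pow, Nakai.cl_pow, Nakai.cl_tensor, mul_pow]
    · congr 1
      refine Nakai.h_congr k ?_ i
      rw [Nakai.cl_tensor, Nakai.cl_pow, Nakai.cl_pow, Nakai.cl_pow, Nakai.cl_tensor, ← mul_pow, mul_assoc,
        Nakai.cl_inv hPP', mul_one]
  obtain ⟨K, hK⟩ := exists_vseq_bound k hL₂ hA₀ hn hO i ![0, 1]
  refine limsup_eq_of_sub_tendsto (vseq_nonneg k n i _ _ _) (vseq_nonneg k n i _ _ _) hK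
    (tendsto_of_abs_le (C := (C + C') * n.factorial) (c := 1) (n' := n) fun m => ?_)
  obtain ⟨c₁, c₂⟩ := close m
  obtain ⟨e₁, e₂⟩ := hh m
  rcases Nat.eq_zero_or_pos n with rfl | hn0
  · simp only [poly, zero_mul, mul_zero, add_zero] at c₁ c₂
    rw [vseq, vseq, e₁, e₂, le_antisymm c₁ c₂]
    simp [poly]
  rcases Nat.eq_zero_or_pos m with rfl | hm
  · simp [zero_pow hn0.ne']; positivity
  have hm0 : (0 : ℝ) < (m : ℝ) ^ n := pow_pos (by exact_mod_cast hm) _
  have hp : poly n m ≤ poly n (m * 1 + 1) := poly_mono n (by omega)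
  have g₁ : (CurveRR.h k (CohB1.tensorPow L m) i : ℝ) ≤ (CurveRR.h k (CohB1.tensorPow (CohB1.tensorMod L P) m) i : ℝ) +
      ((C : ℝ) + C') * (poly n (m * 1 + 1) : ℝ) := by
    have h := c₁.trans (Nat.add_le_add_left (Nat.mul_le_mul (Nat.le_add_right C C') hp) _)
    exact_mod_cast h
  have g₂ : (CurveRR.h k (CohB1.tensorPow (CohB1.tensorMod L P) m) i : ℝ) ≤ (CurveRR.h k (CohB1.tensorPow L m) i : ℝ) +
      ((C : ℝ) + C') * (poly n (m * 1 + 1) : ℝ) := by
    have h := c₂.trans (Nat.add_le_add_left (Nat.mul_le_mul (Nat.le_add_left C' C) hp) _)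
    exact_mod_cast h
  rw [vseq, vseq, e₁, e₂, ← sub_div, ← sub_mul, abs_div, abs_of_pos hm0, div_mul_cancel₀ _ hm0.ne', abs_mul,
    Nat.abs_cast, Nat.cast_mul, Nat.cast_add, mul_right_comm]
  refine mul_le_mul_of_nonneg_right ?_ (Nat.cast_nonneg _)
  rw [abs_le]
  constructor <;> linarith

end Groth.Agent.AsympCoh
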