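import Groth.Agent.AsympCoh.Integral
import Groth.Agent.AsympCoh.Apps
import Groth.Agent.Nakai.CurveConfig
import Groth.Agent.Nakai.SurfBig
import Groth.Agent.Nakai.NefAmple
import Groth.Agent.Nakai.Vanish
import Groth.Agent.StabK3.Euler
import Groth.Agent.CurveRR.Easy
import Mathlib

/-!
Asymptotic cohomology on a surface of a class with a Zariski decomposition.
-/

set_option autoImplicit false
set_option linter.style.haveILetI false
set_option linter.unusedSectionVars false
set_option backward.isDefEq.respectTransparency false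
set_option maxHeartbeats 1000000

universe u

open CategoryTheory CategoryTheory.Limits AlgebraicGeometry Filter Topology
open Groth.Agent.Nakai

noncomputable section

namespace Groth.Agent.AsympCoh.Zariski

attribute [local instance] Groth.Agent.Nakai.clMonoid

variable (k : Type u) [Field k] {X : Scheme.{u}} [X.Over (Spec (CommRingCat.of k))]
  [IsProper (X ↘ Spec (CommRingCat.of k))]

include k in
theorem h_zero_of_two_lt (hdim : topologicalKrullDim X = 2) (F : X.Modules) (i : ℕ) (hi : 3 ≤ i) :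
    Subsingleton (Coh.HH X F i) := by
  haveI := CurveRR.isNoetherian_of_proper k X
  exact Groth.Agent.S0458.result (X := X.toPresheafedSpace.carrier) 2 hdim.le (Coh.toAb F) i (by omega)

theorem euler_eq (hdim : topologicalKrullDim X = 2) (F : X.Modules) :
    Curv2.euler k X F = (CurveRR.h k F 0 : ℤ) - CurveRR.h k F 1 + CurveRR.h k F 2 := by
  rw [CurveRR.euler_eq_sum F 3 (h_zero_of_two_lt k hdim F)]
  simp only [Finset.sum_range_succ, Finset.sum_range_zero]
  ring

/-- Cohomology of the middle term when that of the quotient vanishes. -/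
theorem h_le_of_quot {S : ShortComplex X.Modules} (hS : S.ShortExact) (h₁ : Coh.IsCoh S.X₁) (q : ℕ)
    (h : Subsingleton (Coh.HH X S.X₃ q)) : CurveRR.h k S.X₂ q ≤ CurveRR.h k S.X₁ q := by
  haveI : Module.Finite k (Coh.HH X S.X₁ q) := CohFinite.finite_proper k X _ h₁ q
  haveI := h
  have e : LinearMap.range (CohFinite.hhMap k S.f q) = ⊤ := by
    rw [CurveRR.range_f_eq_ker_g (k := k) hS q]
    exact LinearMap.ker_eq_top.2 (LinearMap.ext fun x => Subsingleton.elim _ _)
  have h' := LinearMap.finrank_range_le (CohFinite.hhMap k S.f q)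
  rw [e, finrank_top] at h'
  exact h'

/-- Riemann–Roch up to a linear error. -/
theorem euler_abs (hdim : topologicalKrullDim X ≤ ((2 : ℕ) : WithBot ℕ∞)) {L : X.Modules} (hL : PicF.IsInvertible L) :
    ∃ C : ℚ, 0 ≤ C ∧ ∀ n : ℕ,
      |(Curv2.euler k X (CohB1.tensorPow L n) : ℚ) - inter k L L / 2 * (n : ℚ) ^ 2| ≤ C * ((n : ℚ) + 1) := by
  obtain ⟨M, hM, ⟨e⟩⟩ := W7Hull.exists_tensor_inverse hL
  obtain ⟨C, hC, hb⟩ := Intersect.binSum_sub_top k M (Coh.structureModule X) 2
  have hd : topologicalKrullDim (CohB1.support (Coh.structureModule X)) ≤ ((2 : ℕ) : WithBot ℕ∞) :=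
    (Intersect.dim_support_structure (X := X)).trans_le hdim
  have hi := Intersect.alt_inverse k 2 (fun _ => L) (fun _ => M) (fun _ => hL) (fun _ => hM) (fun _ => ⟨e⟩)
    _ (isCoh_one k) hd
  refine ⟨C, hC, fun n => ?_⟩
  have h1 := hb n
  rw [← Intersect.euler_pow_eq_binSum k hL hM e 2 n _ (isCoh_one k) (Intersect.lt_succ_of_le' hd), hi,
    euler_congr k (show PicF.cl (CohB1.tensorMod (CohB1.tensorPow L n) (Coh.structureModule X)) =
      PicF.cl (CohB1.tensorPow L n) by rw [cl_tensor, cl_one, mul_one]), ← D_replicate] at h1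
  norm_num at h1
  rw [show D k (List.replicate 2 L) (Coh.structureModule X) = inter k L L from rfl] at h1
  exact h1


/-- Higher asymptotic cohomology of an ample module vanishes. -/
theorem hhat_ample {A : X.Modules} (hA : CohB1.IsAmple A) (n i : ℕ) :
    W4c5asymptcohfn.hhat k X n (i + 1) A = 0 := by
  haveI := CurveRR.isNoetherian_of_proper k X
  obtain ⟨m₀, hm₀⟩ := Nakai.vanishes (X ↘ Spec (CommRingCat.of k)) hA.1 ⊤
    (fun ξ _ => TMul.isAmple_pullback_of_isAffineHom _ hA) (Coh.structureModule X) RefStalk.isCoh_structureModule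
    (by simp)
  refine (limsup_congr ((eventually_ge_atTop m₀).mono fun m hm => ?_)).trans (limsup_const (0 : ℝ))
  haveI := hm₀ m hm i
  rw [show Module.finrank k (Coh.HH X (CohB1.tensorPow A m) (i + 1)) = 0 from
    (CurveRR.h_eq_of_iso (TMul.leftUnitIso (CohB1.tensorPow A m)).symm (i + 1)).trans (CurveRR.h_eq_zero (hm₀ m hm i))]
  simp

variable [IsIntegral X]

/-- Higher asymptotic cohomology of a nef module vanishes. -/
theorem hhat_nef (hdim : topologicalKrullDim X = 2) {A P : X.Modules} (hA : CohB1.IsAmple A)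
    (hP : PicF.IsInvertible P) (hn : Nef k P) (i : ℕ) : W4c5asymptcohfn.hhat k X 2 (i + 1) P = 0 := by
  have hle : topologicalKrullDim X ≤ ((2 : ℕ) : WithBot ℕ∞) := hdim.le
  have h := AsympCoh.tendsto_sub_div_pow k hA hle hP hA.1 (i + 1)
  have h2 : Tendsto (fun _ : ℕ => -W4c5asymptcohfn.hhat k X 2 (i + 1) P) atTop (𝓝 0) := by
    refine h.congr' ((eventually_ge_atTop 1).mono fun p hp => ?_)
    have hamp : CohB1.IsAmple (CohB1.tensorMod (CohB1.tensorPow P p) (CohB1.tensorPow A 1)) :=
      Nakai.isAmple_nef_tensor k hA hP hn hp one_pos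
    have hsame : W4c5asymptcohfn.hhat k X 2 (i + 1) (CohB1.tensorMod (CohB1.tensorPow P p) A) =
        W4c5asymptcohfn.hhat k X 2 (i + 1) (CohB1.tensorMod (CohB1.tensorPow P p) (CohB1.tensorPow A 1)) := by
      refine congrArg (fun u => limsup u atTop) (funext fun m => ?_)
      rw [show Module.finrank k (Coh.HH X (CohB1.tensorPow (CohB1.tensorMod (CohB1.tensorPow P p) A) m) (i + 1)) =
        Module.finrank k (Coh.HH X (CohB1.tensorPow (CohB1.tensorMod (CohB1.tensorPow P p) (CohB1.tensorPow A 1)) m)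
          (i + 1)) from Nakai.h_congr k (by simp only [cl_pow, cl_tensor, pow_one]) _]
    have hp0 : (p : ℝ) ≠ 0 := by exact_mod_cast (show p ≠ 0 by omega)
    rw [hsame, hhat_ample k hamp 2 i, AsympCoh.hhat_pow k hA hle hP p hp, zero_sub, neg_div,
      mul_comm, mul_div_assoc, div_self (pow_ne_zero _ hp0), mul_one]
  have := tendsto_nhds_unique h2 tendsto_const_nhds
  linarith

/-- A vanishing upper limit is a limit. -/
theorem tendsto_of_hhat_zero {A : X.Modules} (hA : CohB1.IsAmple A) (hdim : topologicalKrullDim X = 2)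
    {L : X.Modules} (hL : PicF.IsInvertible L) (i : ℕ) (h : W4c5asymptcohfn.hhat k X 2 i L = 0) :
    Tendsto (fun m : ℕ => (CurveRR.h k (CohB1.tensorPow L m) i : ℝ) * (Nat.factorial 2 : ℝ) / (m : ℝ) ^ 2) atTop (𝓝 0) := by
  let u : ℕ → ℝ := fun m => (CurveRR.h k (CohB1.tensorPow L m) i : ℝ) * (Nat.factorial 2 : ℝ) / (m : ℝ) ^ 2
  change limsup u atTop = 0 at h
  obtain ⟨K, hK⟩ := AsympCoh.exists_vseq_bound k (L := ![L]) (fun j => by fin_cases j; exact hL) hA
    (n := 2) hdim.le (Nakai.isCoh_one k) i ![1]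
  have hK' : IsBoundedUnder (· ≤ ·) atTop u := ⟨K, eventually_map.2 (hK.mono fun m hm => by
    refine le_trans (le_of_eq ?_) hm
    have he : CurveRR.h k (CohB1.tensorPow L m) i = AsympCoh.hN k ![L] (Coh.structureModule X) i (m • ![1]) :=
      Nakai.h_congr k (by simp [cl_tensor, cl_pow, cl_one, AsympCoh.cl_N]) i
    show (CurveRR.h k (CohB1.tensorPow L m) i : ℝ) * (Nat.factorial 2 : ℝ) / (m : ℝ) ^ 2 = _
    rw [AsympCoh.vseq, he])⟩
  refine tendsto_order.2 ⟨fun a ha => Eventually.of_forall fun m => ha.trans_le (by positivity), fun a ha => ?_⟩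
  exact eventually_lt_of_limsup_lt (by rw [h]; exact ha) hK'

theorem deg_quot_h0 {Γc : X.IdealSheafData} [IsIntegral Γc.subscheme] (h1 : topologicalKrullDim Γc.subscheme = 1)
    {M : X.Modules} (hM : PicF.IsInvertible M) (hneg : degOn k Γc M < 0) :
    CurveRR.h k (CohB1.tensorMod (ClSub.quotMod Γc) M) 0 = 0 := by
  let ι := Γc.subschemeι
  letI : Γc.subscheme.Over (Spec (CommRingCat.of k)) := ⟨ι ≫ (X ↘ Spec (CommRingCat.of k))⟩
  haveI : IsProper (Γc.subscheme ↘ Spec (CommRingCat.of k)) := inferInstanceAs (IsProper (ι ≫ _))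
  haveI := CurveRR.isNoetherian_of_proper k Γc.subscheme
  let N := (Scheme.Modules.pullback ι).obj M
  have hN : PicF.IsInvertible N := PicLoc.isInvertible_pullback ι hM
  have hdeg : (Pic13.curveDeg k (ι ≫ (X ↘ Spec (CommRingCat.of k))) N : ℚ) = degOn k Γc M := by
    rw [curveDeg_eq k ι h1.le hM, Scheme.IdealSheafData.ker_subschemeι, Nakai.degOn]
    push_cast
    rfl
  have hdeg' : Curv2.deg k Γc.subscheme N 1 < 0 := by
    have h : (Pic13.curveDeg k (ι ≫ (X ↘ Spec (CommRingCat.of k))) N : ℚ) < 0 := hdeg ▸ hneg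
    have h' : Pic13.curveDeg k (ι ≫ (X ↘ Spec (CommRingCat.of k))) N < 0 := by exact_mod_cast h
    refine lt_of_eq_of_lt ?_ h'
    change _ = FGA.eulerCharLE k Γc.subscheme N 1 - FGA.eulerCharLE k Γc.subscheme (Coh.structureModule _) 1
    rw [Intersect.eulerCharLE_eq k 1 h1.le, Intersect.eulerCharLE_eq k 1 h1.le, Curv2.deg]
    simp
  obtain ⟨e⟩ : Nonempty (CohB1.tensorMod (ClSub.quotMod Γc) M ≅ (Scheme.Modules.pushforward ι).obj N) :=
    ⟨KFlat.projFormulaIso ι (Coh.structureModule _) M ≪≫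
      (Scheme.Modules.pushforward ι).mapIso (TMul.leftUnitIso _)⟩
  rw [CurveRR.h_eq_of_iso e, StabK3.h_push k ι rfl (TMul.isQCoh_of_isInvertible hN)]
  by_contra hne
  obtain ⟨s, hs⟩ := exists_section_of_h0 k (Nat.pos_of_ne_zero hne)
  exact absurd (CurveRR.Easy.deg_nonneg (k := k) h1.le hN s hs) (not_le.2 hdeg')

variable [Smooth (X ↘ Spec (CommRingCat.of k))]

/-- Adding a curve on which the degree is negative changes neither `h⁰`; `h²` can only drop. -/
theorem add_curve (hdim : topologicalKrullDim X = 2) {Γc : X.IdealSheafData} [IsIntegral Γc.subscheme]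
    (h1 : topologicalKrullDim Γc.subscheme = 1) {O T : X.Modules}
    (hO : ClSub.IsInverseOf (ClSub.idealMod Γc) O) (hT : PicF.IsInvertible T) :
    CurveRR.h k (CohB1.tensorMod O T) 2 ≤ CurveRR.h k T 2 ∧
    (degOn k Γc (CohB1.tensorMod O T) < 0 → CurveRR.h k (CohB1.tensorMod O T) 0 = CurveRR.h k T 0) := by
  haveI := CurveRR.isNoetherian_of_proper k X
  have hs : topologicalKrullDim (Γc.support : Set X) = 1 := by
    rw [← h1, IsHomeomorph.topologicalKrullDim_eq _ Γc.subschemeι.isClosedEmbedding.isEmbedding.toHomeomorph.isHomeomorph,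
      Γc.range_subschemeι]
  have hI := inv_of_curve k hdim Γc hs
  have hM : PicF.IsInvertible (CohB1.tensorMod O T) :=
    TMul.isInvertible_tensorMod (Intersect.isInvertible_inverse hI hO) hT
  have hS := CohFinite.shortExact_tmap hM (CurveRR.ideal_shortExact Γc)
  have hMc := CurveRR.isCoh_of_inv hM
  have h₁ := CurveRR.isCoh_tensor' (CurveRR.isCoh_idealMod Γc).1 hMc
  have h₂ := CurveRR.isCoh_tensor' (RefStalk.isCoh_structureModule (X := X)) hMc
  have h₃ := CurveRR.isCoh_tensor' (CurveRR.isCoh_idealMod Γc).2 hMc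
  have e1 : ∀ q, CurveRR.h k (CohB1.tensorMod (ClSub.idealMod Γc) (CohB1.tensorMod O T)) q = CurveRR.h k T q :=
    h_congr k (by rw [cl_tensor, cl_tensor, ← mul_assoc, show PicF.cl (ClSub.idealMod Γc) * PicF.cl O = 1 from
      cl_inv hO, one_mul])
  have e2 : ∀ q, CurveRR.h k (CohB1.tensorMod (Coh.structureModule X) (CohB1.tensorMod O T)) q =
      CurveRR.h k (CohB1.tensorMod O T) q := CurveRR.h_eq_of_iso (TMul.leftUnitIso _)
  refine ⟨?_, fun hneg => le_antisymm ?_ ?_⟩
  · have hsub : Subsingleton (Coh.HH X (CohB1.tensorMod (ClSub.quotMod Γc) (CohB1.tensorMod O T)) 2) := by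
      refine subsingleton_of_support_le k 1 h₃ ?_ 2 one_lt_two
      refine (Intersect.dim_mono (Intersect.support_tensor_subset
        (Groth.Agent.QC.isClosed_support (CurveRR.isCoh_idealMod Γc).2.2) subset_rfl _)).trans ?_
      rw [dim_support_quotMod, hs]
      exact le_rfl
    haveI : Module.Finite k (Coh.HH X (CohB1.tensorMod (ClSub.idealMod Γc) (CohB1.tensorMod O T)) 2) :=
      CohFinite.finite_proper k X _ h₁ 2
    have a := h_le_of_quot k hS h₁ 2 hsub
    change CurveRR.h k (CohB1.tensorMod (Coh.structureModule X) (CohB1.tensorMod O T)) 2 ≤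
      CurveRR.h k (CohB1.tensorMod (ClSub.idealMod Γc) (CohB1.tensorMod O T)) 2 at a
    rwa [e1, e2] at a
  · have b := h0_middle k hS h₁ h₂ h₃
    change CurveRR.h k (CohB1.tensorMod (Coh.structureModule X) (CohB1.tensorMod O T)) 0 ≤
      CurveRR.h k (CohB1.tensorMod (ClSub.idealMod Γc) (CohB1.tensorMod O T)) 0 +
        CurveRR.h k (CohB1.tensorMod (ClSub.quotMod Γc) (CohB1.tensorMod O T)) 0 at b
    rwa [e1, e2, deg_quot_h0 k h1 hM hneg, add_zero] at b
  · have a := h0_le_of_mono k hS h₂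
    change CurveRR.h k (CohB1.tensorMod (ClSub.idealMod Γc) (CohB1.tensorMod O T)) 0 ≤
      CurveRR.h k (CohB1.tensorMod (Coh.structureModule X) (CohB1.tensorMod O T)) 0 at a
    rwa [e1, e2] at a

theorem inter_multiTwist (hdim : topologicalKrullDim X ≤ ((2 : ℕ) : WithBot ℕ∞)) : ∀ {s : ℕ} (O : Fin s → X.Modules),
    (∀ j, PicF.IsInvertible (O j)) → ∀ c : Fin s → ℕ, ∃ W : X.Modules, PicF.IsInvertible W ∧
      PicF.cl W = ∏ j, PicF.cl (O j) ^ c j ∧
      ∀ C : X.Modules, PicF.IsInvertible C → inter k W C = ∑ j, (c j : ℚ) * inter k (O j) C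
  | 0, _, _, _ => ⟨_, TMul.isInvertible_structureModule, by simp [cl_one], fun C _ => by simp [inter_one]⟩
  | s + 1, O, hO, c => by
    obtain ⟨W, hW, hclW, hiW⟩ := inter_multiTwist hdim (fun j => O j.succ) (fun j => hO _) (fun j => c j.succ)
    have h0 := TMul.isInvertible_tensorPow (hO 0) (c 0)
    refine ⟨_, TMul.isInvertible_tensorMod h0 hW, ?_, fun C hC => ?_⟩
    · rw [cl_tensor, cl_pow, hclW, Fin.prod_univ_succ]
    · rw [inter_tensor k hdim h0 hW hC, inter_pow k hdim (hO 0) hC, hiW C hC, Fin.sum_univ_succ]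

/-- Adding the negative part. -/
theorem add_negative (hdim : topologicalKrullDim X = 2) {s : ℕ} (N : Fin s → X.IdealSheafData)
    (hN : ∀ j, IsIntegral (N j).subscheme ∧ topologicalKrullDim (N j).subscheme = 1) (O : Fin s → X.Modules)
    (hO : ∀ j, ClSub.IsInverseOf (ClSub.idealMod (N j)) (O j))
    (hneg : ∀ c : Fin s → ℕ, c ≠ 0 → ∑ i, ∑ j, (c i : ℚ) * c j * inter k (O i) (O j) < 0)
    {T : X.Modules} (hT : PicF.IsInvertible T) (hTO : ∀ j, inter k T (O j) = 0) :
    ∀ (n : ℕ) (c : Fin s → ℕ), ∑ j, c j = n → ∀ M : X.Modules,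
      PicF.cl M = PicF.cl T * ∏ j, PicF.cl (O j) ^ c j →
      CurveRR.h k M 0 = CurveRR.h k T 0 ∧ CurveRR.h k M 2 ≤ CurveRR.h k T 2 := by
  classical
  have hle : topologicalKrullDim X ≤ ((2 : ℕ) : WithBot ℕ∞) := hdim.le
  have hs : ∀ j, topologicalKrullDim ((N j).support : Set X) = 1 := fun j => by
    rw [← (hN j).2, IsHomeomorph.topologicalKrullDim_eq _
      (N j).subschemeι.isClosedEmbedding.isEmbedding.toHomeomorph.isHomeomorph, (N j).range_subschemeι]
  have hI : ∀ j, PicF.IsInvertible (ClSub.idealMod (N j)) := fun j => by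
    haveI := (hN j).1
    exact inv_of_curve k hdim (N j) (hs j)
  have hO' : ∀ j, PicF.IsInvertible (O j) := fun j => Intersect.isInvertible_inverse (hI j) (hO j)
  intro n
  induction n with
  | zero =>
    intro c hc M hM
    have hc0 : ∀ j, c j = 0 := fun j => Finset.sum_eq_zero_iff.1 hc j (Finset.mem_univ j)
    have : PicF.cl M = PicF.cl T := by rw [hM]; simp [hc0]
    exact ⟨h_congr k this 0, (h_congr k this 2).le⟩
  | succ n ih =>
    intro c hc M hM
    have hcne : c ≠ 0 := fun h => by simp [h] at hc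
    obtain ⟨j, hcj, hj⟩ : ∃ j, 0 < c j ∧ ∑ i, (c i : ℚ) * inter k (O i) (O j) < 0 := by
      by_contra hno
      push Not at hno
      refine absurd (hneg c hcne) (not_lt.2 ?_)
      rw [Finset.sum_comm]
      refine Finset.sum_nonneg fun j _ => ?_
      rw [show ∑ i, (c i : ℚ) * c j * inter k (O i) (O j) = (c j : ℚ) * ∑ i, (c i : ℚ) * inter k (O i) (O j) by
        rw [Finset.mul_sum]; exact Finset.sum_congr rfl fun i _ => by ring]
      rcases Nat.eq_zero_or_pos (c j) with h0 | h0
      · simp [h0]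
      · exact mul_nonneg (Nat.cast_nonneg _) (hno j h0)
    let c' := Function.update c j (c j - 1)
    have hc' : ∀ i, c i = c' i + if i = j then 1 else 0 := fun i => by
      by_cases h : i = j
      · subst h; simp [c']; omega
      · simp [c', h]
    have hsum : ∑ i, c' i = n := by
      have h := hc
      rw [Finset.sum_congr rfl (fun i _ => hc' i), Finset.sum_add_distrib] at h
      simp at h
      exact h
    obtain ⟨W', hW', hclW', -⟩ := inter_multiTwist k hle O hO' c'
    obtain ⟨W, hW, hclW, hiW⟩ := inter_multiTwist k hle O hO' c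
    let M' := CohB1.tensorMod T W'
    have hM' : PicF.IsInvertible M' := TMul.isInvertible_tensorMod hT hW'
    obtain ⟨ih0, ih2⟩ := ih c' hsum M' (by rw [cl_tensor, hclW'])
    have hprod : ∏ i, PicF.cl (O i) ^ c i = PicF.cl (O j) * ∏ i, PicF.cl (O i) ^ c' i := by
      rw [Finset.prod_congr rfl (fun i _ => by rw [hc' i, pow_add]), Finset.prod_mul_distrib, mul_comm]
      congr 1
      rw [Finset.prod_eq_single j (fun i _ hi => by simp [hi]) (by simp)]
      simp
    have hcl : PicF.cl M = PicF.cl (CohB1.tensorMod (O j) M') := by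
      rw [hM, hprod, cl_tensor, cl_tensor, hclW']
      ac_rfl
    haveI := (hN j).1
    obtain ⟨a2, a0⟩ := add_curve k hdim (hN j).2 (hO j) hM'
    rw [h_congr k hcl 0, h_congr k hcl 2]
    refine ⟨(a0 ?_).trans ih0, a2.trans ih2⟩
    have hOM : PicF.IsInvertible (CohB1.tensorMod (O j) M') := TMul.isInvertible_tensorMod (hO' j) hM'
    have h := inter_idealMod k hdim (N j) (hs j) hOM
    have h' := inter_inv_right k hle (hI j) (hO j) hOM
    have e : inter k (CohB1.tensorMod (O j) M') (O j) = ∑ i, (c i : ℚ) * inter k (O i) (O j) := by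
      rw [inter_iso k (show PicF.cl (CohB1.tensorMod (O j) M') = PicF.cl (CohB1.tensorMod T W) by
        rw [← hcl, hM, cl_tensor, hclW]), inter_tensor k hle hT hW (hO' j), hTO, hiW _ (hO' j), zero_add]
    linarith

omit [IsIntegral X] [Smooth (X ↘ Spec (CommRingCat.of k))] in
theorem cl_tensorList : ∀ l : List X.Modules, PicF.cl (FGA.tensorList l) = (l.map PicF.cl).prod
  | [] => rfl
  | M :: l => by rw [FGA.tensorList, cl_tensor, cl_tensorList l, List.map_cons, List.prod_cons]

omit [IsIntegral X] [Smooth (X ↘ Spec (CommRingCat.of k))] in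
theorem cl_multiTwist {n : ℕ} (G : Fin n → X.Modules) (m : Fin n → ℕ) :
    PicF.cl (FGA.multiTwist G m) = ∏ i, PicF.cl (G i) ^ m i := by
  rw [FGA.multiTwist, cl_tensorList, List.map_map, ← List.ofFn_eq_map, List.prod_ofFn]
  simp only [Function.comp_apply, cl_pow]

/-- The asymptotic cohomological functions of a class with a Zariski decomposition. -/
theorem main (hdim : topologicalKrullDim X = 2) {A L LP LN MP MN : X.Modules} (hA : CohB1.IsAmple A)
    (hL : PicF.IsInvertible L) (hLP : PicF.IsInvertible LP) (hLN : PicF.IsInvertible LN)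
    (hMP : ClSub.IsInverseOf LP MP) (hMN : ClSub.IsInverseOf LN MN) (a : ℕ) (ha : 1 ≤ a)
    (hdec : Nonempty (CohB1.tensorPow L a ≅ CohB1.tensorMod LP LN)) (hnef : Nef k LP)
    {s : ℕ} (N : Fin s → X.IdealSheafData)
    (hN : ∀ j, IsIntegral (N j).subscheme ∧ topologicalKrullDim (N j).subscheme = 1) (O : Fin s → X.Modules)
    (hO : ∀ j, ClSub.IsInverseOf (ClSub.idealMod (N j)) (O j)) (b : Fin s → ℕ)
    (hLNeq : PicF.cl LN = ∏ j, PicF.cl (O j) ^ b j)
    (hneg : ∀ c : Fin s → ℕ, c ≠ 0 → ∑ i, ∑ j, (c i : ℚ) * c j * inter k (O i) (O j) < 0)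
    (horth : ∀ j, inter k LP (O j) = 0) :
    W4c5asymptcohfn.hhat k X 2 0 L = (FGA.intNum k X 2 ![MP, MP] (Coh.structureModule X) : ℝ) / (a : ℝ) ^ 2 ∧
    W4c5asymptcohfn.hhat k X 2 1 L = -(FGA.intNum k X 2 ![MN, MN] (Coh.structureModule X) : ℝ) / (a : ℝ) ^ 2 ∧
    W4c5asymptcohfn.hhat k X 2 2 L = 0 := by
  have hle : topologicalKrullDim X ≤ ((2 : ℕ) : WithBot ℕ∞) := hdim.le
  have hI : ∀ j, PicF.IsInvertible (O j) := fun j => by
    haveI := (hN j).1
    refine Intersect.isInvertible_inverse (inv_of_curve k hdim (N j) ?_) (hO j)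
    rw [← (hN j).2, IsHomeomorph.topologicalKrullDim_eq _
      (N j).subschemeι.isClosedEmbedding.isEmbedding.toHomeomorph.isHomeomorph, (N j).range_subschemeι]
  let D := CohB1.tensorMod LP LN
  have hD : PicF.IsInvertible D := TMul.isInvertible_tensorMod hLP hLN
  have hfin : ∀ m : ℕ, CurveRR.h k (CohB1.tensorPow D m) 0 = CurveRR.h k (CohB1.tensorPow LP m) 0 ∧
      CurveRR.h k (CohB1.tensorPow D m) 2 ≤ CurveRR.h k (CohB1.tensorPow LP m) 2 := fun m =>
    add_negative k hdim N hN O hO hneg (TMul.isInvertible_tensorPow hLP m)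
      (fun j => by rw [inter_pow k hle hLP (hI j), horth, mul_zero]) _ (fun j => b j * m) rfl _
      (by rw [cl_pow, cl_tensor, mul_pow, hLNeq, cl_pow, ← Finset.prod_pow]
          exact congrArg _ (Finset.prod_congr rfl fun j _ => (pow_mul _ _ _).symm))
  have hPN : inter k LP LN = 0 := by
    obtain ⟨W, hW, hclW, hiW⟩ := inter_multiTwist k hle O hI b
    rw [inter_comm, inter_iso k (hLNeq.trans hclW.symm), hiW LP hLP]
    refine Finset.sum_eq_zero fun j _ => ?_
    rw [inter_comm, horth, mul_zero]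
  have hDD : inter k D D = inter k LP LP + inter k LN LN := by
    rw [inter_tensor k hle hLP hLN hD, inter_tensor_right k hle hLP hLN hLP, inter_tensor_right k hle hLP hLN hLN,
      inter_comm k LN LP, hPN]
    ring
  let u : X.Modules → ℕ → ℕ → ℝ := fun F i m =>
    (CurveRR.h k (CohB1.tensorPow F m) i : ℝ) * (Nat.factorial 2 : ℝ) / (m : ℝ) ^ 2
  have hP1 := tendsto_of_hhat_zero k hA hdim hLP 1 (hhat_nef k hdim hA hLP hnef 0)
  have hP2 := tendsto_of_hhat_zero k hA hdim hLP 2 (hhat_nef k hdim hA hLP hnef 1)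
  have hchi : ∀ F : X.Modules, PicF.IsInvertible F →
      Tendsto (fun m => u F 0 m - u F 1 m + u F 2 m) atTop (𝓝 (inter k F F : ℝ)) := fun F hF => by
    obtain ⟨C, hC, hb⟩ := euler_abs k hle hF
    rw [← tendsto_sub_nhds_zero_iff]
    refine squeeze_zero_norm' ((eventually_ge_atTop 1).mono fun m hm => ?_)
      (tendsto_const_div_atTop_nhds_zero_nat (4 * (C : ℝ)))
    have hm0 : (0 : ℝ) < m := by exact_mod_cast hm
    have h := (Rat.cast_le (K := ℝ)).2 (hb m)
    rw [euler_eq k hdim] at h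
    push_cast at h
    have hm1 : (1 : ℝ) ≤ m := by exact_mod_cast hm
    rw [Real.norm_eq_abs]
    have e : u F 0 m - u F 1 m + u F 2 m - (inter k F F : ℝ) =
        2 * (((CurveRR.h k (CohB1.tensorPow F m) 0 : ℝ) - CurveRR.h k (CohB1.tensorPow F m) 1 +
          CurveRR.h k (CohB1.tensorPow F m) 2) - (inter k F F : ℝ) / 2 * (m : ℝ) ^ 2) / (m : ℝ) ^ 2 := by
      simp only [u, Nat.factorial_two]
      field_simp
      push_cast
      ring
    rw [e, abs_div, abs_of_pos (pow_pos hm0 2), abs_mul, abs_two, div_le_div_iff₀ (pow_pos hm0 2) hm0]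
    nlinarith [mul_le_mul_of_nonneg_right h hm0.le, mul_le_mul_of_nonneg_left hm1 (mul_nonneg ((Rat.cast_nonneg (K := ℝ)).2 hC) hm0.le)]
  have hP0 : Tendsto (u LP 0) atTop (𝓝 (inter k LP LP : ℝ)) := by
    have h := ((hchi LP hLP).add hP1).sub hP2
    simp only [add_zero, sub_zero] at h
    exact h.congr fun m => by simp only [u]; ring
  have hD0 : Tendsto (u D 0) atTop (𝓝 (inter k LP LP : ℝ)) :=
    hP0.congr fun m => by simp only [u, (hfin m).1]
  have hD2 : Tendsto (u D 2) atTop (𝓝 0) :=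
    squeeze_zero (fun m => by positivity) (fun m => by
      simp only [u]
      gcongr
      exact (hfin m).2) hP2
  have hD1 : Tendsto (u D 1) atTop (𝓝 (-(inter k LN LN : ℝ))) := by
    have h := (hD0.add hD2).sub (hchi D hD)
    rw [hDD] at h
    push_cast at h
    rw [show (inter k LP LP : ℝ) + 0 - ((inter k LP LP : ℝ) + (inter k LN LN : ℝ)) = -(inter k LN LN : ℝ) by ring] at h
    exact h.congr fun m => by ring
  have hcl : PicF.cl (CohB1.tensorPow L a) = PicF.cl D := (PicGrp.cl_eq_cl_iff _ _).2 hdec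
  have hval : ∀ (i : ℕ) (v : ℝ), Tendsto (u D i) atTop (𝓝 v) →
      W4c5asymptcohfn.hhat k X 2 i L = v / (a : ℝ) ^ 2 := fun i v hv => by
    have h1 : W4c5asymptcohfn.hhat k X 2 i (CohB1.tensorPow L a) = v := by
      rw [← hv.limsup_eq]
      refine congrArg (fun w => limsup w atTop) (funext fun m => ?_)
      simp only [u]
      rw [show CurveRR.h k (CohB1.tensorPow D m) i = CurveRR.h k (CohB1.tensorPow (CohB1.tensorPow L a) m) i from
        h_congr k (by rw [cl_pow, cl_pow (A := CohB1.tensorPow L a), hcl]) i]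
    rw [← h1, AsympCoh.hhat_pow k hA hle hL a ha]
    have : (a : ℝ) ≠ 0 := by exact_mod_cast (show a ≠ 0 by omega)
    field_simp
  have hint : ∀ {F F' : X.Modules}, PicF.IsInvertible F → ClSub.IsInverseOf F F' →
      (FGA.intNum k X 2 ![F', F'] (Coh.structureModule X) : ℝ) = (inter k F F : ℝ) := fun {F F'} hF hFF' => by
    have h : (FGA.intNum k X 2 ![F', F'] (Coh.structureModule X) : ℚ) = inter k F F := by
      rw [intNum_eq_inter k hle, inter_inv k hle hF hFF' (Intersect.isInvertible_inverse hF hFF'),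
        inter_inv_right k hle hF hFF' hF, neg_neg]
    rw [← h]
    norm_cast
  refine ⟨?_, ?_, ?_⟩
  · rw [hint hLP hMP]; exact hval 0 _ hD0
  · rw [hint hLN hMN]; exact hval 1 _ hD1
  · rw [hval 2 _ hD2, zero_div]

end Groth.Agent.AsympCoh.Zariski
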